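import Cfsg.Agent.Lib.ThompsonWielandt.Main

/-!
Primitive groups: the point stabilisers of a suborbit pair satisfy `Setup`, and
`|G_a|` divides `|P| · d! · ((d - 1)!)^d`.
-/

set_option autoImplicit false
set_option linter.style.haveILetI false

namespace Cfsg.Agent.Lib.ThompsonWielandt

open MulAction Subgroup

variable {G Ω : Type*} [Group G] [MulAction G Ω] [Finite Ω]

theorem card_stabilizer_perm {α : Type*} [Finite α] (x : α) :
    Nat.card (stabilizer (Equiv.Perm α) x) = (Nat.card α - 1).factorial := by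
  haveI := Fintype.ofFinite α
  classical
  have hpos : 0 < Nat.card α := Nat.card_pos_iff.mpr ⟨⟨x⟩, inferInstance⟩
  have h1 := card_mul_index (stabilizer (Equiv.Perm α) x)
  rw [MulAction.index_stabilizer_of_transitive, Nat.card_perm,
    ← Nat.mul_factorial_pred hpos.ne'] at h1
  exact Nat.eq_of_mul_eq_mul_right hpos (h1.trans (mul_comm _ _))

variable [Finite G]

theorem setup_of_suborbit [FaithfulSMul G Ω] (hprim : IsPreprimitive G Ω) (a b : Ω) (d : ℕ)
    (hd : Nat.card (orbit (stabilizer G a) b) = d) (h2 : 2 ≤ d) :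
    Setup (stabilizer G a) (stabilizer G b) := by
  haveI := hprim
  have hne : stabilizer G a ≠ stabilizer G b := by
    intro he
    have hfix : orbit (stabilizer G a) b = {b} := by
      ext y
      refine ⟨?_, fun hy => by rw [Set.mem_singleton_iff.mp hy]; exact mem_orbit_self b⟩
      rintro ⟨⟨g, hg⟩, rfl⟩
      exact Set.mem_singleton_iff.mpr (he ▸ hg : g ∈ stabilizer G b)
    rw [hfix] at hd
    simp at hd
    omega
  haveI : Nontrivial Ω := ⟨⟨a, b, fun h => hne (by rw [h])⟩⟩
  have hcore : ∀ (x : Ω) (N : Subgroup G), N.Normal → N ≤ stabilizer G x → N = ⊥ := by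
    intro x N hN hle
    rw [eq_bot_iff]
    intro n hn
    refine mem_bot.mpr (eq_of_smul_eq_smul fun (y : Ω) => ?_)
    obtain ⟨g, rfl⟩ := exists_smul_eq G x y
    have h := hle (hN.conj_mem n hn g⁻¹)
    rw [mem_stabilizer_iff, inv_inv, mul_smul, mul_smul, inv_smul_eq_iff] at h
    rw [one_smul, h]
  obtain ⟨g, hg⟩ := exists_smul_eq G a b
  refine ⟨?_, ?_, hne, hcore a, hcore b, g, ?_⟩
  · exact IsPreprimitive.isCoatom_stabilizer_of_isPreprimitive (G := G) a
  · exact IsPreprimitive.isCoatom_stabilizer_of_isPreprimitive (G := G) b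
  · rw [← hg]
    exact stabilizer_smul_eq_stabilizer_map_conj g a

theorem relIndex_eq_card_orbit (H : Subgroup G) (x : Ω) :
    (stabilizer G x).relIndex H = Nat.card (orbit H x) := by
  rw [Nat.card_coe_set_eq, ← index_stabilizer]
  rfl

theorem card_eq_orbit_mul (H : Subgroup G) (x : Ω) :
    Nat.card H = Nat.card (orbit H x) * Nat.card ↥(H ⊓ stabilizer G x) := by
  have h := card_mul_index ((H ⊓ stabilizer G x).subgroupOf H)
  rw [Nat.card_congr (subgroupOfEquivOfLe inf_le_left).toEquiv, ← relIndex, inf_relIndex_left,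
    relIndex_eq_card_orbit] at h
  rw [← h, mul_comm]

/-- `|G_a|` divides `|P| · d! · ((d - 1)!)^d`. -/
theorem card_stabilizer_dvd [FaithfulSMul G Ω] [IsPretransitive G Ω] (a b : Ω) (d : ℕ)
    (hd : Nat.card (orbit (stabilizer G a) b) = d) :
    Nat.card (stabilizer G a) ∣
      Nat.card (kerP (stabilizer G a) (stabilizer G b)) *
        (Nat.factorial d * Nat.factorial (d - 1) ^ d) := by
  classical
  set H := stabilizer G a with hH
  set M := stabilizer G b with hM
  set Δ := orbit H b
  haveI := Fintype.ofFinite Δ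
  have hcardM : ∀ c : Ω, Nat.card (stabilizer G c) = Nat.card H := fun c => by
    obtain ⟨g, hg⟩ := exists_smul_eq G a c
    rw [← hg, stabilizer_smul_eq_stabilizer_map_conj]
    exact (Nat.card_congr (H.equivMapOfInjective _ (MulAut.conj g).injective).toEquiv).symm
  -- first step: `H / K`
  set f := toPermHom H Δ
  have hker : f.ker.map H.subtype ≤ kerK H M := by
    refine le_kerK (map_subtype_le _) ?_ ?_
    · rintro _ ⟨h, hh, rfl⟩
      have := Equiv.congr_fun (MonoidHom.mem_ker.mp hh) (⟨b, mem_orbit_self b⟩ : Δ)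
      exact congrArg Subtype.val this
    · refine le_trans ?_ (le_normalizer_map (H := f.ker) H.subtype)
      rw [normalizer_eq_top, ← MonoidHom.range_eq_map, range_subtype]
  have s1 : Nat.card H ∣ Nat.card (kerK H M) * Nat.factorial d := by
    rw [← card_mul_index f.ker, index_ker]
    refine Nat.mul_dvd_mul ?_ ?_
    · rw [Nat.card_congr (f.ker.equivMapOfInjective _ H.subtype_injective).toEquiv]
      exact card_dvd_of_le hker
    · exact (card_subgroup_dvd_card f.range).trans (by rw [Nat.card_perm, hd])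
  -- second step: `K / P`
  have hKH : kerK H M ≤ H := (kerK_le H M).trans inf_le_left
  have hKc : ∀ c : Δ, kerK H M ≤ stabilizer G (c : Ω) := by
    rintro ⟨c, h, rfl⟩ k hk
    have hk' : (h : G)⁻¹ * k * h ∈ kerK H M := by
      simpa using conj_mem_of_le_normalizer (le_normalizer_kerK H M) (inv_mem h.2) hk
    have := mem_stabilizer_iff.mp ((kerK_le H M hk').2)
    rw [mul_smul, mul_smul, inv_smul_eq_iff] at this
    exact this
  let φ : (c : Δ) → kerK H M →* Equiv.Perm (orbit (stabilizer G (c : Ω)) a) := fun c =>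
    (toPermHom (stabilizer G (c : Ω)) (orbit (stabilizer G (c : Ω)) a)).comp (inclusion (hKc c))
  have hφfix : ∀ (c : Δ) (k : kerK H M), φ c k ∈
      stabilizer (Equiv.Perm (orbit (stabilizer G (c : Ω)) a))
        (⟨a, mem_orbit_self a⟩ : orbit (stabilizer G (c : Ω)) a) := fun c k =>
    mem_stabilizer_iff.mpr (Subtype.ext (mem_stabilizer_iff.mp (hKH k.2)))
  let ψ : kerK H M →* ((c : Δ) →
      stabilizer (Equiv.Perm (orbit (stabilizer G (c : Ω)) a))
        (⟨a, mem_orbit_self a⟩ : orbit (stabilizer G (c : Ω)) a)) :=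
    Pi.monoidHom fun c => (φ c).codRestrict _ (hφfix c)
  have hψ : ψ.ker.map (kerK H M).subtype ≤ kerP H M := by
    rintro _ ⟨k, hk, rfl⟩
    refine mem_relCore.mpr fun h hh => mem_relCore.mpr fun m hm => mem_inf.mpr ⟨?_, ?_⟩
    · exact mul_mem (mul_mem hm ((kerK_le H M (conj_mem_of_le_normalizer
        (le_normalizer_kerK H M) hh k.2)).2)) (inv_mem hm)
    · -- `h * k * h⁻¹` fixes `m⁻¹ • a`, as `k` fixes the orbit of `a` under `G_c`, `c = h⁻¹ • b`
      have hc : h⁻¹ • b ∈ Δ := ⟨⟨h⁻¹, inv_mem hh⟩, rfl⟩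
      set g : G := h⁻¹ * m⁻¹ * h with hg
      have hga : h • a = a := mem_stabilizer_iff.mp hh
      have hgc : g ∈ stabilizer G ((⟨h⁻¹ • b, hc⟩ : Δ) : Ω) := by
        show g • h⁻¹ • b = h⁻¹ • b
        rw [smul_smul, hg, mul_assoc, mul_inv_cancel, mul_one, mul_smul,
          mem_stabilizer_iff.mp (inv_mem hm : m⁻¹ ∈ M)]
      have hz : g • a ∈ orbit (stabilizer G ((⟨h⁻¹ • b, hc⟩ : Δ) : Ω)) a := ⟨⟨g, hgc⟩, rfl⟩
      have h1 : (k : G) • g • a = g • a := by
        have h2 := congrFun (MonoidHom.mem_ker.mp hk) (⟨h⁻¹ • b, hc⟩ : Δ)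
        have h3 := Equiv.congr_fun (congrArg Subtype.val h2) ⟨g • a, hz⟩
        exact congrArg Subtype.val h3
      rw [hg, mul_smul, mul_smul, hga] at h1
      show (m * (h * (k : G) * h⁻¹) * m⁻¹) • a = a
      simp only [mul_smul]
      rw [h1, smul_inv_smul, smul_inv_smul]
  have horb : ∀ c : Δ, Nat.card (orbit (stabilizer G (c : Ω)) a) = d := by
    rintro ⟨c, h, rfl⟩
    have h1 := card_eq_orbit_mul H ((h : G) • b)
    have h2 := card_eq_orbit_mul (stabilizer G ((h : G) • b)) a
    rw [inf_comm, hcardM] at h2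
    have ho : orbit H ((h : G) • b) = Δ := orbit_eq_iff.mpr ⟨h, rfl⟩
    rw [ho, hd] at h1
    have hpos : 0 < Nat.card ↥(H ⊓ stabilizer G ((h : G) • b)) := Nat.card_pos
    exact Nat.eq_of_mul_eq_mul_right hpos (h2.symm.trans h1)
  have s2 : Nat.card (kerK H M) ∣ Nat.card (kerP H M) * Nat.factorial (d - 1) ^ d := by
    rw [← card_mul_index ψ.ker, index_ker]
    refine Nat.mul_dvd_mul ?_ ?_
    · rw [Nat.card_congr (ψ.ker.equivMapOfInjective _ (kerK H M).subtype_injective).toEquiv]
      exact card_dvd_of_le hψ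
    · refine (card_subgroup_dvd_card ψ.range).trans ?_
      rw [Nat.card_pi]
      simp only [card_stabilizer_perm, horb]
      rw [Finset.prod_const, Finset.card_univ, ← Nat.card_eq_fintype_card, hd]
  calc Nat.card H ∣ Nat.card (kerK H M) * Nat.factorial d := s1
    _ ∣ Nat.card (kerP H M) * Nat.factorial (d - 1) ^ d * Nat.factorial d :=
        Nat.mul_dvd_mul_right s2 _
    _ = _ := by ring

/-- `|G_a|` divides `|Q| · d! · ((d - 1)!)^d`. -/
theorem card_stabilizer_dvd' [FaithfulSMul G Ω] [IsPretransitive G Ω] (a b : Ω) (d : ℕ)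
    (hd : Nat.card (orbit (stabilizer G a) b) = d) :
    Nat.card (stabilizer G a) ∣
      Nat.card (kerP (stabilizer G b) (stabilizer G a)) *
        (Nat.factorial d * Nat.factorial (d - 1) ^ d) := by
  obtain ⟨g, hg⟩ := exists_smul_eq G a b
  have hcard : Nat.card (stabilizer G a) = Nat.card (stabilizer G b) := by
    rw [← hg, stabilizer_smul_eq_stabilizer_map_conj]
    exact Nat.card_congr ((stabilizer G a).equivMapOfInjective _ (MulAut.conj g).injective).toEquiv
  have h1 := card_eq_orbit_mul (stabilizer G a) b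
  have h2 := card_eq_orbit_mul (stabilizer G b) a
  rw [inf_comm, ← hcard] at h2
  rw [hd] at h1
  have hd' : Nat.card (orbit (stabilizer G b) a) = d :=
    Nat.eq_of_mul_eq_mul_right Nat.card_pos (h2.symm.trans h1)
  exact hcard ▸ card_stabilizer_dvd b a d hd'

end Cfsg.Agent.Lib.ThompsonWielandt
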