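import Cfsg.Agent.Lib.ThompsonWielandt.Basic

/-!
Facts on `Alt(n)` and `Sym(n)`, and groups without a section `Alt(n)`.
-/

set_option autoImplicit false
set_option linter.style.haveILetI false

namespace Cfsg.Agent.Lib.ThompsonWielandt

open Equiv Subgroup

section Perm

variable {α : Type*} [Fintype α] [DecidableEq α]

theorem exists_alt_three (u v w : α) (huv : u ≠ v) (hwu : w ≠ u) (hwv : w ≠ v) :
    Equiv.swap u v * Equiv.swap u w ∈ alternatingGroup α := by
  rw [Perm.mem_alternatingGroup, map_mul, Perm.sign_swap huv, Perm.sign_swap (Ne.symm hwu)]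
  rfl

theorem exists_alt_fix {i u v : α} (h : 4 ≤ Fintype.card α) (hu : u ≠ i) (hv : v ≠ i) :
    ∃ σ ∈ alternatingGroup α, σ i = i ∧ σ u = v := by
  rcases eq_or_ne u v with rfl | huv
  · exact ⟨1, one_mem _, rfl, rfl⟩
  obtain ⟨w, hw⟩ : ∃ w, w ∉ ({i, u, v} : Finset α) := by
    by_contra hne
    push Not at hne
    have h1 : (Finset.univ : Finset α).card ≤ ({i, u, v} : Finset α).card :=
      Finset.card_le_card fun x _ => hne x
    have h2 : ({i, u, v} : Finset α).card ≤ 3 := Finset.card_le_three
    rw [Finset.card_univ] at h1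
    omega
  simp only [Finset.mem_insert, Finset.mem_singleton, not_or] at hw
  refine ⟨Equiv.swap w v * Equiv.swap w u,
    exists_alt_three w v u hw.2.2 (Ne.symm hw.2.1) huv, ?_, ?_⟩
  · rw [Perm.mul_apply, Equiv.swap_apply_of_ne_of_ne (Ne.symm hw.1) hu.symm,
      Equiv.swap_apply_of_ne_of_ne (Ne.symm hw.1) hv.symm]
  · rw [Perm.mul_apply, Equiv.swap_apply_right, Equiv.swap_apply_left]

theorem exists_alt_move (i j : α) (h : 3 ≤ Fintype.card α) :
    ∃ σ ∈ alternatingGroup α, σ i = j := by
  rcases eq_or_ne i j with rfl | hij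
  · exact ⟨1, one_mem _, rfl⟩
  obtain ⟨w, hw⟩ : ∃ w, w ∉ ({i, j} : Finset α) := by
    by_contra hne
    push Not at hne
    have h1 : (Finset.univ : Finset α).card ≤ ({i, j} : Finset α).card :=
      Finset.card_le_card fun x _ => hne x
    have h2 : ({i, j} : Finset α).card ≤ 2 := Finset.card_le_two
    rw [Finset.card_univ] at h1
    omega
  simp only [Finset.mem_insert, Finset.mem_singleton, not_or] at hw
  refine ⟨Equiv.swap i w * Equiv.swap i j,
    exists_alt_three i w j (Ne.symm hw.1) (Ne.symm hij) (Ne.symm hw.2), ?_⟩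
  rw [Perm.mul_apply, Equiv.swap_apply_left, Equiv.swap_apply_of_ne_of_ne (Ne.symm hij)
    (Ne.symm hw.2)]

theorem eq_one_of_commute_alt {σ : Perm α} (h : 4 ≤ Fintype.card α)
    (hc : ∀ τ ∈ alternatingGroup α, σ * τ = τ * σ) : σ = 1 := by
  refine Equiv.ext fun a => ?_
  by_contra hne
  obtain ⟨c, hc1⟩ : ∃ c, c ∉ ({a, σ a} : Finset α) := by
    by_contra hh
    push Not at hh
    have h1 : (Finset.univ : Finset α).card ≤ ({a, σ a} : Finset α).card :=
      Finset.card_le_card fun x _ => hh x
    have h2 : ({a, σ a} : Finset α).card ≤ 2 := Finset.card_le_two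
    rw [Finset.card_univ] at h1
    omega
  simp only [Finset.mem_insert, Finset.mem_singleton, not_or] at hc1
  obtain ⟨τ, hτ, hτa, hτb⟩ := exists_alt_fix (i := a) (u := σ a) (v := c) h hne hc1.1
  have h1 := Equiv.congr_fun (hc τ hτ) a
  rw [Perm.mul_apply, Perm.mul_apply, hτa, hτb] at h1
  exact hc1.2 h1.symm

theorem alt_le_of_normalized (h : 5 ≤ Fintype.card α) {N : Subgroup (Perm α)}
    (hn : alternatingGroup α ≤ normalizer (N : Set (Perm α))) (hN : N ≠ ⊥) :
    alternatingGroup α ≤ N := by
  haveI : IsSimpleGroup (alternatingGroup α) :=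
    alternatingGroup.isSimpleGroup (by rw [Nat.card_eq_fintype_card]; exact h)
  haveI : (N.subgroupOf (alternatingGroup α)).Normal := normal_subgroupOf_iff_le_normalizer_inf.mpr
    (le_trans (le_inf hn le_normalizer) inf_normalizer_le_normalizer_inf)
  rcases (inferInstance : (N.subgroupOf (alternatingGroup α)).Normal).eq_bot_or_eq_top with h1 | h1
  · exfalso
    refine hN ((eq_bot_iff_forall N).mpr fun σ hσ => eq_one_of_commute_alt (by omega) fun τ hτ => ?_)
    have hmem : σ * τ * σ⁻¹ * τ⁻¹ ∈ N := by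
      rw [show σ * τ * σ⁻¹ * τ⁻¹ = σ * (τ * σ⁻¹ * τ⁻¹) by group]
      exact mul_mem hσ (conj_mem_of_le_normalizer hn hτ (inv_mem hσ))
    have hmem2 : σ * τ * σ⁻¹ * τ⁻¹ ∈ alternatingGroup α :=
      mul_mem ((alternatingGroup.normal (α := α)).conj_mem τ hτ σ) (inv_mem hτ)
    have h3 : (⟨_, hmem2⟩ : alternatingGroup α) ∈ N.subgroupOf (alternatingGroup α) :=
      mem_subgroupOf.mpr hmem
    rw [h1, mem_bot] at h3
    have h4 : σ * τ * σ⁻¹ * τ⁻¹ = 1 := congrArg Subtype.val h3
    rwa [mul_inv_eq_one, mul_inv_eq_iff_eq_mul] at h4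
  · exact subgroupOf_eq_top.mp h1

theorem card_le_relIndex_alt (h : 5 ≤ Fintype.card α) {X : Subgroup (Perm α)}
    (hX : ¬ alternatingGroup α ≤ X) : Fintype.card α ≤ X.relIndex (alternatingGroup α) := by
  set A := alternatingGroup α
  haveI : IsSimpleGroup A := alternatingGroup.isSimpleGroup (by rw [Nat.card_eq_fintype_card]; exact h)
  haveI : Nontrivial α := Fintype.one_lt_card_iff_nontrivial.mp (by omega)
  set X' := X.subgroupOf A
  have hne : X' ≠ ⊤ := fun e => hX (subgroupOf_eq_top.mp e)
  have hinj : Function.Injective (MulAction.toPermHom A (A ⧸ X')) := by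
    rw [← MonoidHom.ker_eq_bot_iff, ← normalCore_eq_ker]
    exact (normalCore_normal X').eq_bot_or_eq_top.resolve_right fun e =>
      hne (eq_top_iff.mpr (e.symm.le.trans (normalCore_le X')))
  have h1 := Nat.card_le_card_of_injective _ hinj
  rw [Nat.card_perm] at h1
  have hA : 2 * Nat.card A = (Fintype.card α).factorial := by
    rw [two_mul_nat_card_alternatingGroup, Nat.card_perm, Nat.card_eq_fintype_card]
  by_contra hlt
  push Not at hlt
  have hk : Nat.card (A ⧸ X') ≤ Fintype.card α - 1 := by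
    change X.relIndex A ≤ _
    omega
  have h2 := h1.trans (Nat.factorial_le hk)
  have h3 : Fintype.card α * (Fintype.card α - 1).factorial = (Fintype.card α).factorial :=
    Nat.mul_factorial_pred (by omega)
  have h4 : 0 < (Fintype.card α - 1).factorial := Nat.factorial_pos _
  nlinarith

theorem commutator_alt_le (h : 5 ≤ Fintype.card α) {X Y : Subgroup (Perm α)}
    (hX : alternatingGroup α ≤ X) (hY : alternatingGroup α ≤ Y) :
    alternatingGroup α ≤ ⁅X, Y⁆ :=
  le_trans (_root_.commutator_alternatingGroup_eq_self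
    (by rw [Nat.card_eq_fintype_card]; exact h)).ge (commutator_mono hX hY)

end Perm

/-! ### Groups without a section isomorphic to `Alt(n)` -/

variable {G : Type*} [Group G]

/-- No subgroup of `X` maps onto `Alt(n)`. -/
def AltFree (n : ℕ) (X : Subgroup G) : Prop :=
  ∀ Y : Subgroup G, Y ≤ X → ∀ f : Y →* alternatingGroup (Fin n), ¬ Function.Surjective f

theorem altFree_bot {n : ℕ} (hn : 3 ≤ n) : AltFree n (⊥ : Subgroup G) := by
  intro Y hY f hf
  haveI : Nontrivial (alternatingGroup (Fin n)) :=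
    alternatingGroup.nontrivial_of_three_le_card (by simpa using hn)
  haveI : Subsingleton Y := ⟨fun x y => Subtype.ext
    ((mem_bot.mp (hY x.2)).trans (mem_bot.mp (hY y.2)).symm)⟩
  haveI := hf.subsingleton
  exact false_of_nontrivial_of_subsingleton (alternatingGroup (Fin n))

theorem card_alt_le_range {n : ℕ} [Finite G] {Y : Subgroup G} {Z : Type*} [Group Z] [Finite Z]
    (φ : Y →* Z) (f : Y →* alternatingGroup (Fin n)) (hf : Function.Surjective f)
    (h : φ.ker ≤ f.ker) : Nat.card (alternatingGroup (Fin n)) ≤ Nat.card φ.range := by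
  rw [← index_ker φ]
  calc Nat.card (alternatingGroup (Fin n)) = f.ker.index := by
        rw [index_ker, MonoidHom.range_eq_top.mpr hf, card_top]
    _ ≤ φ.ker.index := index_antitone h

theorem altFree_of_hom [Finite G] {n : ℕ} (hn : 5 ≤ n) {X N : Subgroup G} {Z : Type*} [Group Z]
    [Finite Z] (φ : X →* Z) (hN : φ.ker.map X.subtype ≤ N) (hNfree : AltFree n N)
    (hsmall : Nat.card φ.range < Nat.card (alternatingGroup (Fin n))) : AltFree n X := by
  intro Y hY f hf
  haveI : IsSimpleGroup (alternatingGroup (Fin n)) :=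
    alternatingGroup.isSimpleGroup (by simpa using hn)
  set ψ := φ.comp (inclusion hY)
  rcases ((inferInstance : ψ.ker.Normal).map f hf).eq_bot_or_eq_top with h | h
  · rw [Subgroup.map_eq_bot_iff] at h
    have h1 := card_alt_le_range ψ f hf h
    have h2 : Nat.card ψ.range ≤ Nat.card φ.range := card_le_of_le (by
      rintro _ ⟨y, rfl⟩; exact ⟨_, rfl⟩)
    omega
  · refine hNfree (ψ.ker.map Y.subtype) ?_ (f.comp (inclusion (map_subtype_le _))) ?_
    · rintro _ ⟨y, hy, rfl⟩
      exact hN ⟨inclusion hY y, hy, rfl⟩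
    · intro u
      obtain ⟨y, hy, rfl⟩ : u ∈ ψ.ker.map f := h ▸ mem_top u
      exact ⟨⟨(y : G), ⟨y, hy, rfl⟩⟩, rfl⟩

theorem altFree_of_family [Finite G] {n : ℕ} (hn : 5 ≤ n) {X : Subgroup G} {ι : Type*} [Fintype ι]
    {Z : ι → Type*} [∀ c, Group (Z c)] [∀ c, Finite (Z c)] (φ : ∀ c, X →* Z c)
    (hinj : ∀ x : X, (∀ c, φ c x = 1) → x = 1)
    (hsmall : ∀ c, Nat.card (φ c).range < Nat.card (alternatingGroup (Fin n))) : AltFree n X := by
  classical
  intro Y hY f hf
  haveI : IsSimpleGroup (alternatingGroup (Fin n)) :=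
    alternatingGroup.isSimpleGroup (by simpa using hn)
  haveI : Nontrivial (alternatingGroup (Fin n)) :=
    alternatingGroup.nontrivial_of_three_le_card (by simpa using (by omega : 3 ≤ n))
  have hone : ∀ c, ((φ c).comp (inclusion hY)).ker.map f = ⊤ := fun c => by
    rcases ((inferInstance : ((φ c).comp (inclusion hY)).ker.Normal).map f hf).eq_bot_or_eq_top
      with h | h
    · rw [Subgroup.map_eq_bot_iff] at h
      have h1 := card_alt_le_range _ f hf h
      have h2 : Nat.card ((φ c).comp (inclusion hY)).range ≤ Nat.card (φ c).range :=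
        card_le_of_le (by rintro _ ⟨y, rfl⟩; exact ⟨_, rfl⟩)
      have := hsmall c
      omega
    · exact h
  have key : ∀ s : Finset ι,
      (⨅ c ∈ s, ((φ c).comp (inclusion hY)).ker).map f = ⊤ := by
    intro s
    induction s using Finset.induction_on with
    | empty => simp [Subgroup.map_top_of_surjective f hf]
    | insert c s hc ih =>
      rw [eq_top_iff]
      have hcomm : ⁅(⊤ : Subgroup (alternatingGroup (Fin n))),
          (⊤ : Subgroup (alternatingGroup (Fin n)))⁆ = ⊤ := by
        rw [← _root_.commutator_def]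
        exact _root_.commutator_alternatingGroup_eq_top (by simpa using hn)
      refine (hcomm.ge.trans (commutator_mono (hone c).ge ih.ge)).trans ?_
      rw [← map_commutator]
      refine map_mono ?_
      rw [Finset.iInf_insert]
      haveI : (⨅ i ∈ s, ((φ i).comp (inclusion hY)).ker).Normal :=
        normal_iInf_normal fun i => normal_iInf_normal fun _ => inferInstance
      exact commutator_le_inf _ _
  have hall := key Finset.univ
  have hbot : (⨅ c ∈ (Finset.univ : Finset ι), ((φ c).comp (inclusion hY)).ker) = ⊥ := by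
    rw [eq_bot_iff]
    intro y hy
    refine mem_bot.mpr (inclusion_injective hY ((hinj _ fun c => ?_).trans (map_one _).symm))
    exact MonoidHom.mem_ker.mp ((iInf₂_le c (Finset.mem_univ c) :
      (⨅ c ∈ (Finset.univ : Finset ι), ((φ c).comp (inclusion hY)).ker) ≤ _) hy)
  rw [hbot, Subgroup.map_bot] at hall
  exact bot_ne_top hall

theorem AltFree.map {n : ℕ} {X : Subgroup G} (h : AltFree n X) (e : G ≃* G) :
    AltFree n (X.map e.toMonoidHom) := by
  intro Y hY f hf
  have hle : Y.map e.symm.toMonoidHom ≤ X := by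
    rintro _ ⟨y, hy, rfl⟩
    obtain ⟨x, hx, rfl⟩ := hY hy
    simpa using hx
  set g := Y.equivMapOfInjective e.symm.toMonoidHom e.symm.injective
  exact h _ hle (f.comp g.symm.toMonoidHom) (hf.comp g.symm.surjective)

end Cfsg.Agent.Lib.ThompsonWielandt
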