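import Cfsg.Agent.Lib.ThompsonWielandt.AltSide

/-!
If the group induced on the suborbit contains the alternating group and `P = 1` then `K ⊓ K' = 1`.
-/

set_option autoImplicit false
set_option linter.style.haveILetI false

namespace Cfsg.Agent.Lib.ThompsonWielandt

open Subgroup Equiv
open scoped commutatorElement

variable {G : Type*} [Group G] [Finite G] {H M : Subgroup G} {d : ℕ}

omit [Finite G] in
theorem quasisimple_alternating {n : ℕ} (hn : 5 ≤ n) :
    Cfsg.IsQuasisimple (alternatingGroup (Fin n)) := by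
  haveI : IsSimpleGroup (alternatingGroup (Fin n)) :=
    alternatingGroup.isSimpleGroup (by simpa using hn)
  exact Components.quasisimple_of_forall_normal
    (Group.isPerfect_def.mpr (_root_.commutator_alternatingGroup_eq_top (by simpa using hn)))
    fun N hN hne => (hN.eq_bot_or_eq_top.resolve_right hne).le.trans bot_le

theorem map_conj_le_normalizer {X Y Z : Subgroup G} (g : G)
    (hY : Z ≤ normalizer (Y : Set G)) (hg : g ∈ normalizer (Z : Set G))
    (hX : X = Y.map (MulAut.conj g).toMonoidHom) : Z ≤ normalizer (X : Set G) := by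
  subst hX
  intro z hz
  refine le_normalizer_map _ ⟨g⁻¹ * z * g, hY ?_, by simp [mul_assoc]⟩
  exact (mem_normalizer_iff.mp hg _).mpr (by simpa [mul_assoc] using hz)

theorem inf_kerK_eq_bot (s : Setup H M) (S : Side H M d) (hS : S.π.range.index ≤ 2)
    (S' : Side M H d) (hS' : S'.π.range.index ≤ 2) (hd : 6 ≤ d)
    (e : kerK H M ≃* kerK M H) (hP : kerP H M = ⊥) (hK : kerK H M ≠ ⊥) :
    kerK H M ⊓ kerK M H = ⊥ := by
  classical
  haveI : Fintype H := Fintype.ofFinite _
  set K := kerK H M with hKdef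
  set K' := kerK M H with hK'def
  have hKH : K ≤ H := (kerK_le H M).trans inf_le_left
  have hKM : K ≤ M := (kerK_le H M).trans inf_le_right
  have hKD : K ≤ M ⊓ H := le_inf hKM hKH
  have hK'H : K' ≤ H := (kerK_le M H).trans inf_le_right
  have hHK : H ≤ normalizer (K : Set G) := le_normalizer_kerK H M
  have hMK' : M ≤ normalizer (K' : Set G) := le_normalizer_kerK M H
  have hnle : ¬ K ≤ K' := fun hle => hK (le_bot_iff.mp (hP ▸ (le_relCore hle hHK : K ≤ kerP H M)))
  have hAK : alternatingGroup (Fin (d - 1)) ≤ S'.img K :=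
    S'.alt_le_img hS' hd hKD (inf_le_right.trans hHK) hnle
  set E := ⁅K, K⁆ with hEdef
  have hEK : E ≤ K := commutator_le_self K
  have hHE : H ≤ normalizer (E : Set G) := Coprime.le_normalizer_commutator hHK hHK
  have hEimg : S'.img E = ⁅S'.img K, S'.img K⁆ := S'.img_commutator hKD hKD
  have hd5 : 5 ≤ Fintype.card (Fin (d - 1)) := by simp; omega
  have hAE : alternatingGroup (Fin (d - 1)) ≤ S'.img E :=
    hEimg ▸ commutator_alt_le hd5 hAK hAK
  have hEA : S'.img E ≤ alternatingGroup (Fin (d - 1)) := by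
    rw [hEimg]
    refine (commutator_mono le_top le_top).trans ?_
    rw [← _root_.commutator_def]
    exact alternatingGroup.commutator_perm_le
  set J := K ⊓ K' with hJdef
  set Jh : H → Subgroup G := fun h => J.map (MulAut.conj (h : G)).toMonoidHom with hJh
  have hJK : ∀ h, Jh h ≤ K := by
    rintro h _ ⟨x, hx, rfl⟩
    exact conj_mem_of_le_normalizer hHK h.2 hx.1
  have hKJ : K ≤ normalizer (J : Set G) :=
    le_trans (le_inf le_normalizer (hKM.trans hMK')) inf_normalizer_le_normalizer_inf
  have hKJh : ∀ h, K ≤ normalizer (Jh h : Set G) := fun h =>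
    map_conj_le_normalizer (h : G) hKJ (hHK h.2) rfl
  have hKE : K ≤ normalizer (E : Set G) := hKH.trans hHE
  have hchar : ∀ k ∈ K, (∀ x ∈ E, k * x * k⁻¹ * x⁻¹ ∈ K') → k ∈ J := fun k hk hc =>
    ⟨hk, S'.mem_kerK_of_commute hd (hEK.trans hKD) hAE (hKD hk) hc⟩
  by_contra hJ
  have hmax : ∀ h : H, (h : G) ∉ M → (h : G) ∉ normalizer (J : Set G) := by
    intro h hhM hh
    refine hJ (le_bot_iff.mp (hP ▸ (le_relCore inf_le_right ?_ : J ≤ kerP H M)))
    refine S.le_of_contains hS hd ?_ hh hhM
    exact le_trans (le_inf (inf_le_left.trans hHK) (inf_le_right.trans hMK'))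
      inf_normalizer_le_normalizer_inf
  -- distinct conjugates of `J` differ inside `E`
  have hD1 : ∀ h : H, (h : G) ∉ M → ¬ E ⊓ Jh h ≤ J := by
    intro h hhM hle
    have hconjE : E.map (MulAut.conj (h : G)).toMonoidHom = E := by
      refine eq_of_le_of_card_ge ?_ ?_
      · rintro _ ⟨x, hx, rfl⟩; exact conj_mem_of_le_normalizer hHE h.2 hx
      · exact (Nat.card_congr (E.equivMapOfInjective _ (MulAut.conj (h : G)).injective).toEquiv).le
    have heq : E ⊓ Jh h = E ⊓ J := by
      refine eq_of_le_of_card_ge (le_inf inf_le_left hle) ?_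
      have h1 : (E ⊓ J).map (MulAut.conj (h : G)).toMonoidHom = E ⊓ Jh h := by
        rw [Subgroup.map_inf _ _ _ (MulAut.conj (h : G)).injective, hconjE]
      rw [← h1]
      exact (Nat.card_congr ((E ⊓ J).equivMapOfInjective _
        (MulAut.conj (h : G)).injective).toEquiv).le
    have hJle : Jh h ≤ J := by
      intro k hk
      refine hchar k (hJK h hk) fun x hx => ?_
      have hmem : k * x * k⁻¹ * x⁻¹ ∈ E ⊓ Jh h := by
        refine mem_inf.mpr ⟨mul_mem (conj_mem_of_le_normalizer hKE (hJK h hk) hx) (inv_mem hx), ?_⟩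
        rw [show k * x * k⁻¹ * x⁻¹ = k * (x * k⁻¹ * x⁻¹) by group]
        exact mul_mem hk (conj_mem_of_le_normalizer (hKJh h) (hEK hx) (inv_mem hk))
      exact (heq ▸ hmem).2.2
    have hJeq : Jh h = J := eq_of_le_of_card_ge hJle
      (Nat.card_congr (J.equivMapOfInjective _ (MulAut.conj (h : G)).injective).toEquiv).le
    refine hmax h hhM (mem_normalizer_iff.mpr fun z => ⟨fun hz => hJle ⟨z, hz, rfl⟩, fun hz => ?_⟩)
    obtain ⟨w, hw, he⟩ : (h : G) * z * (h : G)⁻¹ ∈ Jh h := hJeq ▸ hz
    have : w = z := (MulAut.conj (h : G)).injective he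
    exact this ▸ hw
  -- the common part of the other conjugates
  have hEs : ∀ s : Finset H, (∀ h ∈ s, (h : G) ∉ M) →
      alternatingGroup (Fin (d - 1)) ≤ S'.img (E ⊓ ⨅ h ∈ s, Jh h) := by
    intro s
    induction s using Finset.induction_on with
    | empty => intro _; simpa using hAE
    | insert h s hhs ih =>
      intro hs
      have ih' := ih fun x hx => hs x (Finset.mem_insert_of_mem hx)
      set X := E ⊓ ⨅ x ∈ s, Jh x with hX
      set Y := E ⊓ Jh h with hY
      have hKY : K ≤ normalizer (Y : Set G) :=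
        le_trans (le_inf hKE (hKJh h)) inf_normalizer_le_normalizer_inf
      have hAY : alternatingGroup (Fin (d - 1)) ≤ S'.img Y := by
        refine alt_le_of_normalized hd5 (hAK.trans (S'.img_le_normalizer hKY)) fun h0 => ?_
        refine hD1 h (hs h (Finset.mem_insert_self h s)) ?_
        exact le_inf (inf_le_left.trans hEK)
          ((S'.img_eq_bot_iff (inf_le_left.trans (hEK.trans hKD))).mp h0)
      have hKX : K ≤ normalizer (X : Set G) := by
        intro k hk
        rw [mem_normalizer_iff]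
        intro z
        simp only [hX, mem_inf, mem_iInf]
        exact and_congr (mem_normalizer_iff.mp (hKE hk) z)
          (forall₂_congr fun x _ => mem_normalizer_iff.mp (hKJh x hk) z)
      refine (commutator_alt_le hd5 ih' hAY).trans ?_
      rw [← S'.img_commutator (inf_le_left.trans (hEK.trans hKD))
        (inf_le_left.trans (hEK.trans hKD))]
      refine S'.img_mono ?_
      rw [commutator_le]
      intro x hx y hy
      have hxK : x ∈ K := hEK hx.1
      have hyK : y ∈ K := hEK hy.1
      have h1 : ⁅x, y⁆ ∈ X := by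
        rw [commutatorElement_def, show x * y * x⁻¹ * y⁻¹ = x * (y * x⁻¹ * y⁻¹) by group]
        exact mul_mem hx (conj_mem_of_le_normalizer hKX hyK (inv_mem hx))
      have h2 : ⁅x, y⁆ ∈ Y := by
        rw [commutatorElement_def]
        exact mul_mem (conj_mem_of_le_normalizer hKY hxK hy) (inv_mem hy)
      rw [Finset.iInf_insert]
      exact mem_inf.mpr ⟨h1.1, mem_inf.mpr ⟨h2.2, h1.2⟩⟩
  set T := E ⊓ ⨅ h ∈ (Finset.univ.filter fun h : H => (h : G) ∉ M), Jh h with hT
  have hAT : alternatingGroup (Fin (d - 1)) ≤ S'.img T :=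
    hEs _ fun h hh => (Finset.mem_filter.mp hh).2
  have hTK : T ≤ K := inf_le_left.trans hEK
  have hTJ : ∀ h : H, (h : G) ∉ M → T ≤ Jh h := fun h hh =>
    inf_le_right.trans (iInf₂_le h (Finset.mem_filter.mpr ⟨Finset.mem_univ h, hh⟩))
  have hKT : K ≤ normalizer (T : Set G) := by
    intro k hk
    rw [mem_normalizer_iff]
    intro z
    simp only [hT, mem_inf, mem_iInf]
    exact and_congr (mem_normalizer_iff.mp (hKE hk) z)
      (forall₂_congr fun x _ => mem_normalizer_iff.mp (hKJh x hk) z)
  have hTK' : T ⊓ K' = ⊥ := by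
    refine le_bot_iff.mp (hP ▸ fun x hx => ?_)
    refine mem_relCore.mpr fun h hh => ?_
    by_cases hM : h⁻¹ ∈ M
    · exact conj_mem_of_le_normalizer hMK' (inv_inv h ▸ inv_mem hM) hx.2
    · obtain ⟨w, hw, he⟩ := hTJ ⟨h⁻¹, inv_mem hh⟩ hM hx.1
      rw [← he]
      simpa [mul_assoc] using hw.2
  have hTne : T ≠ ⊥ := by
    intro h0
    haveI : Nontrivial (alternatingGroup (Fin (d - 1))) :=
      alternatingGroup.nontrivial_of_three_le_card (by simp; omega)
    have h1 : S'.img T ≤ ⊥ := ((S'.img_eq_bot_iff (hTK.trans hKD)).mpr (h0 ▸ bot_le)).le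
    exact (Subgroup.nontrivial_iff_ne_bot _).mp inferInstance (le_bot_iff.mp (hAT.trans h1))
  -- `T ≅ Alt(d - 1)`
  have hTq : Cfsg.IsQuasisimple T := by
    set f := S'.rho.comp (inclusion (hTK.trans hKD)) with hf
    have hinj : Function.Injective f := by
      rw [injective_iff_map_eq_one]
      intro x hx
      have h1 : (x : G) ∈ T ⊓ K' := ⟨x.2, (S'.rho_eq_one _).mp hx⟩
      rw [hTK', mem_bot] at h1
      exact Subtype.ext h1
    have hrange : f.range = alternatingGroup (Fin (d - 1)) := by
      refine le_antisymm ?_ ?_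
      · rintro _ ⟨x, rfl⟩
        exact hEA (S'.img_mono inf_le_left (S'.mem_img x.2 _))
      · intro τ hτ
        obtain ⟨x, hx, rfl⟩ := hAT hτ
        exact ⟨⟨(x : G), mem_subgroupOf.mp hx⟩, rfl⟩
    exact Components.quasisimple_of_mulEquiv
      ((MonoidHom.ofInjective hinj).trans (MulEquiv.subgroupCongr hrange)).symm
      (quasisimple_alternating (by omega))
  set Th : H → Subgroup G := fun h => T.map (MulAut.conj (h : G)).toMonoidHom with hTh
  have hThK : ∀ h, Th h ≤ K := by
    rintro h _ ⟨x, hx, rfl⟩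
    exact conj_mem_of_le_normalizer hHK h.2 (hTK hx)
  have hKTh : ∀ h, K ≤ normalizer (Th h : Set G) := fun h =>
    map_conj_le_normalizer (h : G) hKT (hHK h.2) rfl
  have hThq : ∀ h, Cfsg.IsQuasisimple (Th h) := fun h =>
    Components.quasisimple_of_mulEquiv
      (T.equivMapOfInjective _ (MulAut.conj (h : G)).injective) hTq
  have hThn : ∀ h, ((Th h).subgroupOf K).Normal := fun h =>
    normal_subgroupOf_of_le_normalizer (hKTh h)
  have hThc : ∀ h, Cfsg.IsComponent ((Th h).subgroupOf K) := fun h =>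
    ⟨(hThn h).isSubnormal, (Components.quasisimple_subgroupOf_iff (hThK h)).mpr (hThq h)⟩
  -- the components of `K` are normal
  have hcompK : ∀ L : Subgroup K, Cfsg.IsComponent L → L.Normal := by
    intro L hL
    by_cases hex : ∃ h, L = (Th h).subgroupOf K
    · obtain ⟨h, rfl⟩ := hex; exact hThn h
    push Not at hex
    exfalso
    refine Components.isComponent_ne_bot hL ((eq_bot_iff_forall L).mpr fun x hx => ?_)
    refine Subtype.ext (mem_bot.mp (hP ▸ (mem_relCore.mpr fun h hh => ?_ :
      (x : G) ∈ kerP H M)))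
    have hy : h * (x : G) * h⁻¹ ∈ K := conj_mem_of_le_normalizer hHK hh x.2
    refine S'.mem_kerK_of_commute hd (hTK.trans hKD) hAT (hKD hy) fun t ht => ?_
    have ht' : h⁻¹ * t * h ∈ Th ⟨h⁻¹, inv_mem hh⟩ := ⟨t, ht, by simp⟩
    have hc := mem_centralizer_iff.mp (Components.isComponent_le_centralizer hL
      (hThc ⟨h⁻¹, inv_mem hh⟩) (hex ⟨h⁻¹, inv_mem hh⟩) hx)
      ⟨h⁻¹ * t * h, hThK _ ht'⟩ (mem_subgroupOf.mpr ht')
    have hc' : h⁻¹ * t * h * (x : G) = (x : G) * (h⁻¹ * t * h) := congrArg Subtype.val hc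
    have : h * (x : G) * h⁻¹ * t * (h * (x : G) * h⁻¹)⁻¹ * t⁻¹ = 1 := by
      rw [mul_inv_eq_one, mul_inv_eq_iff_eq_mul]
      calc h * (x : G) * h⁻¹ * t = h * ((x : G) * (h⁻¹ * t * h)) * h⁻¹ := by group
        _ = t * (h * (x : G) * h⁻¹) := by rw [← hc']; group
    rw [this]
    exact one_mem _
  have hcompK' : ∀ L : Subgroup K', Cfsg.IsComponent L → L.Normal := by
    intro L hL
    have h1 := (hcompK _ (Components.isComponent_map_equiv hL e.symm)).map e.toMonoidHom e.surjective
    rwa [Subgroup.map_map, show e.toMonoidHom.comp e.symm.toMonoidHom = MonoidHom.id _ from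
      MonoidHom.ext fun x => e.apply_symm_apply x, Subgroup.map_id] at h1
  -- every element of `K'` fixes every point
  have hfix : ∀ h : H, (h : G) ∉ M → ∀ y : H, (y : G) ∈ K' → S.π y (S.π h S.i) = S.π h S.i := by
    intro h hhM y hy
    have hinv : ((h⁻¹ : H) : G) ∉ M := fun hm => hhM (by simpa using inv_mem hm)
    have hThJ : Th h ≤ J := by
      rintro _ ⟨t, ht, rfl⟩
      obtain ⟨w, hw, he⟩ := hTJ h⁻¹ hinv ht
      rw [← he]
      simpa [mul_assoc] using hw
    have hThK' : Th h ≤ K' := hThJ.trans inf_le_right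
    haveI hJn : ((J).subgroupOf K').Normal := normal_subgroupOf_of_le_normalizer
      (le_trans (le_inf (hK'H.trans hHK) le_normalizer) inf_normalizer_le_normalizer_inf)
    have hcomp : Cfsg.IsComponent ((Th h).subgroupOf K') := by
      refine ⟨?_, (Components.quasisimple_subgroupOf_iff hThK').mpr (hThq h)⟩
      have hle : (Th h).subgroupOf K' ≤ J.subgroupOf K' := comap_mono hThJ
      haveI : (((Th h).subgroupOf K').subgroupOf (J.subgroupOf K')).Normal := by
        refine normal_subgroupOf_of_le_normalizer fun x hx => ?_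
        rw [mem_normalizer_iff]
        intro z
        simp only [mem_subgroupOf, Subgroup.coe_mul, InvMemClass.coe_inv]
        exact mem_normalizer_iff.mp (hKTh h (mem_subgroupOf.mp hx).1) (z : G)
      have h2 := (Normal.isSubnormal (inferInstance :
        (((Th h).subgroupOf K').subgroupOf (J.subgroupOf K')).Normal)).trans' hJn.isSubnormal
      rwa [map_subgroupOf_eq_of_le hle] at h2
    have hnorm : K' ≤ normalizer (Th h : Set G) :=
      (normal_subgroupOf_iff_le_normalizer hThK').mp (hcompK' _ hcomp)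
    set z : H := h⁻¹ * y * h with hz
    have hTz : T.map (MulAut.conj (z : G)).toMonoidHom = T := by
      refine eq_of_le_of_card_ge ?_
        (Nat.card_congr (T.equivMapOfInjective _ (MulAut.conj (z : G)).injective).toEquiv).le
      rintro _ ⟨t, ht, rfl⟩
      obtain ⟨t', ht', he⟩ := conj_mem_of_le_normalizer hnorm hy
        (⟨t, ht, rfl⟩ : (MulAut.conj (h : G)).toMonoidHom t ∈ Th h)
      have : (MulAut.conj (z : G)).toMonoidHom t = t' := by
        simp only [MulEquiv.coe_toMonoidHom, MulAut.conj_apply] at he ⊢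
        rw [hz]
        simp only [Subgroup.coe_mul, InvMemClass.coe_inv]
        rw [show t' = (h : G)⁻¹ * ((h : G) * t' * (h : G)⁻¹) * h by group, he]
        group
      exact this ▸ ht'
    have hzM : (z : G) ∈ M := by
      by_contra hzM
      refine hTne (le_bot_iff.mp ?_)
      rw [← hTK']
      refine le_inf le_rfl ?_
      have h1 := hTJ z hzM
      rw [← hTz] at h1
      exact ((map_le_map_iff_of_injective (MulAut.conj (z : G)).injective).mp h1).trans inf_le_right
    have h2 := (S.mem z).mpr hzM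
    rw [hz, map_mul, map_mul, map_inv, Perm.mul_apply, Perm.mul_apply] at h2
    have := congrArg (S.π h) h2
    simpa using this
  obtain ⟨h₀, hh₀⟩ := S.exists_ne hS hd
  have hu : S.π h₀ S.i ≠ S.i := fun e1 => hh₀ ((S.mem h₀).mp e1)
  have hK'K : K' ≤ K := by
    intro y hy
    refine (S.ker ⟨y, hK'H hy⟩).mp (Equiv.ext fun v => ?_)
    rcases eq_or_ne v S.i with rfl | hv
    · exact (S.mem _).mpr ((kerK_le M H hy).1)
    obtain ⟨z, hzM, hzu⟩ := S.exists_move hS hd hu hv
    have hy' : (z : G)⁻¹ * y * z ∈ K' := by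
      simpa using conj_mem_of_le_normalizer hMK' (inv_mem hzM) hy
    have h1 := hfix h₀ hh₀ (z⁻¹ * ⟨y, hK'H hy⟩ * z) (by simpa using hy')
    rw [map_mul, map_mul, map_inv, Perm.mul_apply, Perm.mul_apply, hzu, Perm.inv_eq_iff_eq, hzu]
      at h1
    simpa using h1
  have hKeq : K' = K := eq_of_le_of_card_ge hK'K (Nat.card_congr e.toEquiv).le
  exact hK (s.eq_bot_of_normalized hKH hHK (hKeq ▸ hMK'))

end Cfsg.Agent.Lib.ThompsonWielandt
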