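import Cfsg.Agent.Lib.ThompsonWielandt.Action
import Cfsg.Agent.Lib.ThompsonWielandt.AltFacts

/-!
The permutation representation of `H` on the cosets of `H ⊓ M`, and of `H ⊓ M` on the remaining
`d - 1` points.
-/

set_option autoImplicit false
set_option linter.style.haveILetI false

namespace Cfsg.Agent.Lib.ThompsonWielandt

open Subgroup Equiv

variable {G : Type*} [Group G] [Finite G]

/-- A representation of `H` of degree `d` with kernel `K` and point stabiliser `H ⊓ M`. -/
structure Side (H M : Subgroup G) (d : ℕ) where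
  π : H →* Perm (Fin d)
  i : Fin d
  mem : ∀ h : H, π h i = i ↔ (h : G) ∈ M
  ker : ∀ h : H, π h = 1 ↔ (h : G) ∈ kerK H M
  card : Nat.card H = d * Nat.card ↥(H ⊓ M)

namespace Side

variable {H M : Subgroup G} {d : ℕ}

/-- The action of `H ⊓ M` on the points other than the fixed one, as a permutation of a subtype. -/
def rhoAux (S : Side H M d) : ↥(H ⊓ M) →* Perm {x : Fin d // x ≠ S.i} :=
  MonoidHom.mk' (fun h => (S.π (inclusion inf_le_left h)).subtypePerm fun x => by
      have hi := (S.mem (inclusion inf_le_left h)).mpr h.2.2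
      constructor
      · intro hx e
        exact hx (by rw [e, hi])
      · intro hx e
        exact hx ((S.π (inclusion inf_le_left h)).injective (e.trans hi.symm)))
    fun a b => by
      refine Equiv.ext fun x => Subtype.ext ?_
      show S.π (inclusion inf_le_left (a * b)) x = _
      rw [map_mul, map_mul]
      rfl

/-- The action of `H ⊓ M` on the other `d - 1` points. -/
noncomputable def rho (S : Side H M d) : ↥(H ⊓ M) →* Perm (Fin (d - 1)) :=
  (Fintype.equivFinOfCardEq (α := {x : Fin d // x ≠ S.i}) (by simp)).permCongrHom.toMonoidHom.comp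
    S.rhoAux

theorem rho_eq_one (S : Side H M d) (h : ↥(H ⊓ M)) : S.rho h = 1 ↔ (h : G) ∈ kerK H M := by
  refine Iff.trans ?_ (S.ker (inclusion inf_le_left h))
  simp only [rho, MonoidHom.coe_comp, MulEquiv.coe_toMonoidHom, Function.comp_apply,
    EmbeddingLike.map_eq_one_iff]
  constructor
  · intro e
    refine Equiv.ext fun x => ?_
    rcases eq_or_ne x S.i with rfl | hx
    · exact (S.mem _).mpr h.2.2
    · exact congrArg Subtype.val (Equiv.congr_fun e ⟨x, hx⟩)
  · intro e
    refine Equiv.ext fun x => Subtype.ext ?_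
    show S.π (inclusion inf_le_left h) x = x
    rw [e]; rfl

theorem kerK_le_left (_S : Side H M d) : kerK H M ≤ H := (kerK_le H M).trans inf_le_left

theorem ker_π (S : Side H M d) : S.π.ker = (kerK H M).subgroupOf H := by
  ext h; rw [MonoidHom.mem_ker, mem_subgroupOf]; exact S.ker h

theorem ker_rho (S : Side H M d) : S.rho.ker = (kerK H M).subgroupOf (H ⊓ M) := by
  ext h; rw [MonoidHom.mem_ker, mem_subgroupOf]; exact S.rho_eq_one h

theorem card_range_mul (S : Side H M d) :
    Nat.card S.π.range * Nat.card (kerK H M) = Nat.card H := by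
  rw [← index_ker, ker_π, mul_comm,
    ← Nat.card_congr (subgroupOfEquivOfLe S.kerK_le_left).toEquiv, card_mul_index]

theorem card_rho_range_mul (S : Side H M d) :
    Nat.card S.rho.range * Nat.card (kerK H M) = Nat.card ↥(H ⊓ M) := by
  rw [← index_ker, ker_rho, mul_comm,
    ← Nat.card_congr (subgroupOfEquivOfLe (kerK_le H M)).toEquiv, card_mul_index]

theorem card_range_eq (S : Side H M d) :
    Nat.card S.π.range = d * Nat.card S.rho.range := by
  refine Nat.eq_of_mul_eq_mul_right (Nat.card_pos (α := kerK H M)) ?_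
  rw [S.card_range_mul, mul_assoc, S.card_rho_range_mul, S.card]

theorem rho_index_le (S : Side H M d) (hS : S.π.range.index ≤ 2) : S.rho.range.index ≤ 2 := by
  have hd : 0 < d := Fin.pos S.i
  have h1 := card_mul_index S.π.range
  have h2 := card_mul_index S.rho.range
  rw [Nat.card_perm, Nat.card_fin] at h1 h2
  rw [S.card_range_eq, ← Nat.mul_factorial_pred hd.ne', mul_assoc] at h1
  have h3 := Nat.eq_of_mul_eq_mul_left hd h1
  have h4 : S.rho.range.index = S.π.range.index :=
    Nat.eq_of_mul_eq_mul_left Nat.card_pos (h2.trans h3.symm)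
  omega

theorem alt_le_range (S : Side H M d) (hS : S.π.range.index ≤ 2) :
    alternatingGroup (Fin d) ≤ S.π.range :=
  Perm.alternatingGroup_le_of_index_le_two hS

theorem alt_le_rho_range (S : Side H M d) (hS : S.π.range.index ≤ 2) :
    alternatingGroup (Fin (d - 1)) ≤ S.rho.range :=
  Perm.alternatingGroup_le_of_index_le_two (S.rho_index_le hS)

theorem exists_move (S : Side H M d) (hS : S.π.range.index ≤ 2) (hd : 6 ≤ d) {u v : Fin d}
    (hu : u ≠ S.i) (hv : v ≠ S.i) : ∃ z : H, (z : G) ∈ M ∧ S.π z u = v := by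
  obtain ⟨σ, hσ, hσi, hσu⟩ := exists_alt_fix (α := Fin d) (by simp; omega) hu hv
  obtain ⟨z, hz⟩ := S.alt_le_range hS hσ
  exact ⟨z, (S.mem z).mp (by rw [hz]; exact hσi), by rw [hz]; exact hσu⟩

theorem exists_ne (S : Side H M d) (hS : S.π.range.index ≤ 2) (hd : 6 ≤ d) :
    ∃ h : H, (h : G) ∉ M := by
  have : Nontrivial (Fin d) := Fin.nontrivial_iff_two_le.mpr (by omega)
  obtain ⟨j, hj⟩ := _root_.exists_ne S.i
  obtain ⟨σ, hσ, hσi⟩ := exists_alt_move S.i j (by simp; omega)
  obtain ⟨z, hz⟩ := S.alt_le_range hS hσ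
  exact ⟨z, fun hm => hj (by rw [← hσi, ← hz]; exact (S.mem z).mpr hm)⟩

/-- `H ⊓ M` is maximal in `H`. -/
theorem le_of_contains (S : Side H M d) (hS : S.π.range.index ≤ 2) (hd : 6 ≤ d) {Y : Subgroup G}
    (hY : H ⊓ M ≤ Y) {h : H} (hh : (h : G) ∈ Y) (hhM : (h : G) ∉ M) : H ≤ Y := by
  intro r hr
  have hu : S.π h S.i ≠ S.i := fun e => hhM ((S.mem h).mp e)
  rcases eq_or_ne (S.π ⟨r, hr⟩ S.i) S.i with e | e
  · exact hY (mem_inf.mpr ⟨hr, (S.mem ⟨r, hr⟩).mp e⟩)
  · obtain ⟨z, hzM, hz⟩ := S.exists_move hS hd hu e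
    have hy : ((z * h : H) : G) ∈ Y :=
      mul_mem (hY (mem_inf.mpr ⟨z.2, hzM⟩) : (z : G) ∈ Y) hh
    have hfix : ((z * h)⁻¹ * (⟨r, hr⟩ : H) : H).1 ∈ M := by
      refine (S.mem _).mp ?_
      rw [map_mul, map_inv, Perm.mul_apply]
      show (S.π (z * h))⁻¹ (S.π ⟨r, hr⟩ S.i) = S.i
      rw [← hz, map_mul, ← Perm.mul_apply, ← Perm.mul_apply, mul_assoc, inv_mul_cancel,
        Perm.one_apply]
    have := mul_mem hy (hY (mem_inf.mpr ⟨((z * h)⁻¹ * (⟨r, hr⟩ : H) : H).2, hfix⟩))
    simpa [mul_assoc] using this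

/-- The image of `X ≤ H ⊓ M` in `Sym(d - 1)`. -/
noncomputable def img (S : Side H M d) (X : Subgroup G) : Subgroup (Perm (Fin (d - 1))) :=
  (X.subgroupOf (H ⊓ M)).map S.rho

theorem img_mono (S : Side H M d) {X Y : Subgroup G} (h : X ≤ Y) : S.img X ≤ S.img Y :=
  map_mono (comap_mono h)

theorem mem_img (S : Side H M d) {X : Subgroup G} {x : G} (hx : x ∈ X) (hxD : x ∈ H ⊓ M) :
    S.rho ⟨x, hxD⟩ ∈ S.img X :=
  mem_map_of_mem _ (mem_subgroupOf.mpr hx)

theorem img_eq_bot_iff (S : Side H M d) {X : Subgroup G} (hX : X ≤ H ⊓ M) :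
    S.img X = ⊥ ↔ X ≤ kerK H M := by
  rw [img, Subgroup.map_eq_bot_iff, ker_rho]
  exact ⟨fun h x hx => mem_subgroupOf.mp (h (mem_subgroupOf.mpr hx : ⟨x, hX hx⟩ ∈ _)),
    fun h => comap_mono h⟩

theorem img_le_normalizer (S : Side H M d) {X Z : Subgroup G}
    (hn : Z ≤ normalizer (X : Set G)) : S.img Z ≤ normalizer (S.img X : Set (Perm (Fin (d - 1)))) := by
  refine le_trans (map_mono fun z hz => ?_) (le_normalizer_map S.rho)
  rw [mem_normalizer_iff]
  intro w
  simp only [mem_subgroupOf, Subgroup.coe_mul, InvMemClass.coe_inv]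
  exact mem_normalizer_iff.mp (hn (mem_subgroupOf.mp hz)) (w : G)

theorem img_inf (S : Side H M d) : S.img (H ⊓ M) = S.rho.range := by
  rw [img, subgroupOf_self, MonoidHom.range_eq_map]

theorem img_commutator (S : Side H M d) {X Y : Subgroup G} (hX : X ≤ H ⊓ M) (hY : Y ≤ H ⊓ M) :
    S.img ⁅X, Y⁆ = ⁅S.img X, S.img Y⁆ := by
  rw [img, img, img, ← map_commutator]
  congr 1
  apply map_injective (H ⊓ M).subtype_injective
  rw [map_commutator, map_subgroupOf_eq_of_le hX, map_subgroupOf_eq_of_le hY,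
    map_subgroupOf_eq_of_le]
  exact (commutator_mono hX hY).trans (commutator_le_self _)

theorem alt_le_img (S : Side H M d) (hS : S.π.range.index ≤ 2) (hd : 6 ≤ d) {X : Subgroup G}
    (hX : X ≤ H ⊓ M) (hn : H ⊓ M ≤ normalizer (X : Set G)) (hne : ¬ X ≤ kerK H M) :
    alternatingGroup (Fin (d - 1)) ≤ S.img X :=
  alt_le_of_normalized (by simp; omega)
    ((S.alt_le_rho_range hS).trans (S.img_inf.ge.trans (S.img_le_normalizer hn)))
    fun h => hne ((S.img_eq_bot_iff hX).mp h)

/-- Elements of `H ⊓ M` whose images centralise `Alt(d - 1)` act trivially. -/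
theorem mem_kerK_of_commute (S : Side H M d) (hd : 6 ≤ d) {X : Subgroup G} (hX : X ≤ H ⊓ M)
    (hA : alternatingGroup (Fin (d - 1)) ≤ S.img X) {k : G} (hk : k ∈ H ⊓ M)
    (hc : ∀ x ∈ X, k * x * k⁻¹ * x⁻¹ ∈ kerK H M) : k ∈ kerK H M := by
  refine (S.rho_eq_one ⟨k, hk⟩).mp (eq_one_of_commute_alt (by simp; omega) fun τ hτ => ?_)
  obtain ⟨x, hx, rfl⟩ := hA hτ
  have h1 : S.rho (⟨k, hk⟩ * x * (⟨k, hk⟩ : ↥(H ⊓ M))⁻¹ * x⁻¹) = 1 :=
    (S.rho_eq_one _).mpr (hc x (mem_subgroupOf.mp hx))
  rwa [map_mul, map_mul, map_mul, map_inv, map_inv, mul_inv_eq_one, mul_inv_eq_iff_eq_mul] at h1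

theorem factorial_lt_card_alt (_S : Side H M d) (hd : 6 ≤ d) :
    (d - 1).factorial < Nat.card (alternatingGroup (Fin d)) := by
  haveI : Nontrivial (Fin d) := Fin.nontrivial_iff_two_le.mpr (by omega)
  have h := two_mul_nat_card_alternatingGroup (α := Fin d)
  rw [Nat.card_perm, Nat.card_fin, ← Nat.mul_factorial_pred (by omega : d ≠ 0)] at h
  have hpos : 0 < (d - 1).factorial := Nat.factorial_pos _
  nlinarith

theorem rho_range_small (S : Side H M d) (hd : 6 ≤ d) {X : Type*} [Group X] (f : X →* ↥(H ⊓ M)) :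
    Nat.card (S.rho.comp f).range < Nat.card (alternatingGroup (Fin d)) := by
  refine lt_of_le_of_lt ?_ (S.factorial_lt_card_alt hd)
  refine (card_le_card_group _).trans ?_
  rw [Nat.card_perm, Nat.card_fin]

end Side

section Action

open MulAction

variable {Ω : Type*} [MulAction G Ω]

theorem mem_ker_toPermHom (a b : Ω) (h : stabilizer G a) :
    h ∈ (toPermHom (stabilizer G a) (orbit (stabilizer G a) b)).ker ↔
      (h : G) ∈ kerK (stabilizer G a) (stabilizer G b) := by
  constructor
  · intro hh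
    refine le_kerK (Z := (toPermHom (stabilizer G a) (orbit (stabilizer G a) b)).ker.map
      (stabilizer G a).subtype) (map_subtype_le _) ?_ ?_ ⟨h, hh, rfl⟩
    · rintro _ ⟨x, hx, rfl⟩
      have := Equiv.congr_fun (MonoidHom.mem_ker.mp hx)
        (⟨b, mem_orbit_self b⟩ : orbit (stabilizer G a) b)
      exact congrArg Subtype.val this
    · refine le_trans ?_ (le_normalizer_map
        (H := (toPermHom (stabilizer G a) (orbit (stabilizer G a) b)).ker) (stabilizer G a).subtype)
      rw [normalizer_eq_top, ← MonoidHom.range_eq_map, range_subtype]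
  · intro hk
    refine MonoidHom.mem_ker.mpr (Equiv.ext ?_)
    rintro ⟨c, x, rfl⟩
    refine Subtype.ext ?_
    show (h : G) • (x : G) • b = (x : G) • b
    have hk' : (x : G)⁻¹ * h * x ∈ kerK (stabilizer G a) (stabilizer G b) := by
      simpa using conj_mem_of_le_normalizer (le_normalizer_kerK _ _) (inv_mem x.2) hk
    have := mem_stabilizer_iff.mp ((kerK_le _ _ hk').2)
    rwa [mul_smul, mul_smul, inv_smul_eq_iff] at this

variable [Finite Ω]

/-- The side of a suborbit. -/
noncomputable def sideOfOrbit (a b : Ω) (d : ℕ)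
    (hd : Nat.card (orbit (stabilizer G a) b) = d) : Side (stabilizer G a) (stabilizer G b) d where
  π := ((Finite.equivFinOfCardEq hd).permCongrHom.toMonoidHom).comp
    (toPermHom (stabilizer G a) (orbit (stabilizer G a) b))
  i := Finite.equivFinOfCardEq hd ⟨b, mem_orbit_self b⟩
  mem h := by
    rw [mem_stabilizer_iff]
    simp only [MonoidHom.coe_comp, MulEquiv.coe_toMonoidHom, Function.comp_apply,
      Equiv.permCongrHom_coe, Equiv.permCongr_apply, Equiv.symm_apply_apply,
      EmbeddingLike.apply_eq_iff_eq]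
    exact ⟨fun e => congrArg Subtype.val e, fun e => Subtype.ext e⟩
  ker h := by
    rw [← mem_ker_toPermHom a b h, MonoidHom.mem_ker]
    simp only [MonoidHom.coe_comp, MulEquiv.coe_toMonoidHom, Function.comp_apply,
      EmbeddingLike.map_eq_one_iff]
  card := by rw [card_eq_orbit_mul (stabilizer G a) b, hd]

theorem sideOfOrbit_range_index (a b : Ω) (d : ℕ)
    (hd : Nat.card (orbit (stabilizer G a) b) = d) :
    (sideOfOrbit (G := G) a b d hd).π.range.index =
      (toPermHom (stabilizer G a) (orbit (stabilizer G a) b)).range.index := by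
  rw [show (sideOfOrbit (G := G) a b d hd).π.range =
    (toPermHom (stabilizer G a) (orbit (stabilizer G a) b)).range.map
      (Finite.equivFinOfCardEq hd).permCongrHom.toMonoidHom from MonoidHom.range_comp _ _]
  exact index_map_equiv (e := (Finite.equivFinOfCardEq hd).permCongrHom) _

end Action

end Cfsg.Agent.Lib.ThompsonWielandt
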