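import Cfsg.Agent.Lib.ThompsonWielandt.AltMeet

/-!
Point stabilisers whose action on a suborbit of length `d ≥ 6` contains `Alt(d)` and is unfaithful.
-/

set_option autoImplicit false
set_option linter.style.haveILetI false

namespace Cfsg.Agent.Lib.ThompsonWielandt

open Subgroup Equiv
open scoped commutatorElement

variable {G : Type*} [Group G] [Finite G] {H M : Subgroup G} {d : ℕ}

theorem not_isPGroup_of_alt_le {n r : ℕ} [Fact r.Prime] (hn : 5 ≤ n)
    {X : Subgroup (Perm (Fin n))} (hX : alternatingGroup (Fin n) ≤ X) : ¬ IsPGroup r X := by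
  intro hp
  haveI : Group.IsNilpotent (alternatingGroup (Fin n)) := (hp.to_le hX).isNilpotent
  exact Components.quasisimple_not_isSolvable (quasisimple_alternating hn) inferInstance

theorem kerP_eq_bot_or (s : Setup H M) (S : Side H M d) (hS : S.π.range.index ≤ 2) (hd : 6 ≤ d) :
    kerP H M = ⊥ ∨ kerP M H = ⊥ := by
  by_contra hh
  push Not at hh
  obtain ⟨r, hr, hR, -, -⟩ := s.thompson_wielandt hh.1 hh.2
  haveI := Fact.mk hr
  have hO : Cfsg.pCoreOf r (H ⊓ M) ≤ kerK H M := by
    by_contra hne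
    refine not_isPGroup_of_alt_le (r := r) (n := d - 1) (by omega)
      (S.alt_le_img hS hd (CharP.pCoreOf_le _) (CharP.le_normalizer_pCoreOf _) hne) ?_
    exact ((CharP.pCoreOf_isPGroup (H ⊓ M)).comap_of_injective _
      (H ⊓ M).subtype_injective).map _
  refine hR (le_bot_iff.mp (s.pCoreOf_inf_eq_bot hO ▸ CharP.le_pCoreOf
    (inf_le_left.trans (kerP_le_inf H M)) ((CharP.pCoreOf_isPGroup H).to_le inf_le_right) ?_))
  exact inf_le_left.trans (le_trans (le_inf (le_normalizer_kerP H M)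
    (CharP.le_normalizer_pCoreOf H)) inf_normalizer_le_normalizer_inf)

theorem altFree_inf (S : Side H M d) (S' : Side M H d) (hd : 6 ≤ d) (hP : kerP H M = ⊥) :
    AltFree d (H ⊓ M) := by
  classical
  haveI : Fintype H := Fintype.ofFinite _
  have hKD : kerK H M ≤ M ⊓ H := (kerK_le H M).trans (inf_comm H M).le
  let c : H → kerK H M →* ↥(M ⊓ H) := fun h =>
    ((MulAut.conj (h : G)).toMonoidHom.comp (kerK H M).subtype).codRestrict _ fun k =>
      hKD (conj_mem_of_le_normalizer (le_normalizer_kerK H M) h.2 k.2)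
  have hK : AltFree d (kerK H M) := by
    refine altFree_of_family (by omega) (fun h => S'.rho.comp (c h)) (fun k hk => ?_)
      fun h => S'.rho_range_small hd (c h)
    refine Subtype.ext (mem_bot.mp (hP ▸ (mem_relCore.mpr fun h hh => ?_ : (k : G) ∈ kerP H M)))
    exact (S'.rho_eq_one (c ⟨h, hh⟩ k)).mp (hk ⟨h, hh⟩)
  refine altFree_of_hom (by omega) S.rho ?_ hK ?_
  · rw [S.ker_rho]
    exact fun x ⟨y, hy, he⟩ => he ▸ mem_subgroupOf.mp hy
  · have := S.rho_range_small hd (MonoidHom.id _)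
    rwa [MonoidHom.comp_id] at this

theorem kerK_map_le (f : G ≃* G) (A B : Subgroup G) :
    (kerK A B).map f.toMonoidHom ≤ kerK (A.map f.toMonoidHom) (B.map f.toMonoidHom) :=
  le_kerK (map_mono ((kerK_le A B).trans inf_le_left)) (map_mono ((kerK_le A B).trans inf_le_right))
    ((map_mono (le_normalizer_kerK A B)).trans (le_normalizer_map _))

theorem kerK_map (f : G ≃* G) (A B : Subgroup G) :
    (kerK A B).map f.toMonoidHom = kerK (A.map f.toMonoidHom) (B.map f.toMonoidHom) := by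
  refine le_antisymm (kerK_map_le f A B) fun x hx => ⟨f.symm x, ?_, f.apply_symm_apply x⟩
  have h := kerK_map_le f.symm (A.map f.toMonoidHom) (B.map f.toMonoidHom) ⟨x, hx, rfl⟩
  have hid : ∀ X : Subgroup G, (X.map f.toMonoidHom).map f.symm.toMonoidHom = X := fun X => by
    ext y
    simp
  rwa [hid, hid] at h

/-- `K` and `K'` are isomorphic. -/
theorem exists_kerK_equiv (s : Setup H M) (S : Side H M d) (hS : S.π.range.index ≤ 2) (hd : 6 ≤ d)
    (hfree : AltFree d (H ⊓ M)) : Nonempty (kerK H M ≃* kerK M H) := by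
  obtain ⟨g, hg⟩ := s.conj
  set f : G ≃* G := MulAut.conj g with hfdef
  set N := H.map f.symm.toMonoidHom with hN
  set D₂ := H ⊓ N with hD₂
  have hKH := S.kerK_le_left
  have hback : N.map f.toMonoidHom = H := by
    rw [hN, Subgroup.map_map]
    ext y
    simp
  have hD₂map : D₂.map f.toMonoidHom = H ⊓ M := by
    rw [hD₂, Subgroup.map_inf _ _ _ f.injective, hback, inf_comm]
    rw [hg]
  have hD₂eq : D₂ = (H ⊓ M).map f.symm.toMonoidHom := by
    rw [← hD₂map, Subgroup.map_map]
    ext y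
    simp
  have hfree₂ : AltFree d D₂ := hD₂eq ▸ hfree.map f.symm
  have hcard₂ : Nat.card D₂ = Nat.card ↥(H ⊓ M) := by
    rw [← hD₂map]
    exact Nat.card_congr (D₂.equivMapOfInjective _ f.injective).toEquiv
  set X := (D₂.subgroupOf H).map S.π with hX
  have hXA : ¬ alternatingGroup (Fin d) ≤ X := by
    intro hle
    set Y := ((alternatingGroup (Fin d)).comap S.π ⊓ D₂.subgroupOf H).map H.subtype with hY
    have hYH : Y ≤ H := map_subtype_le _
    have hmem : ∀ y : Y, S.π (inclusion hYH y) ∈ alternatingGroup (Fin d) := by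
      rintro ⟨_, z, hz, rfl⟩
      exact hz.1
    refine hfree₂ Y ?_ ((S.π.comp (inclusion hYH)).codRestrict _ hmem) ?_
    · rintro _ ⟨z, hz, rfl⟩
      exact mem_subgroupOf.mp hz.2
    · rintro ⟨τ, hτ⟩
      obtain ⟨z, hz, rfl⟩ := hle hτ
      exact ⟨⟨(z : G), z, ⟨hτ, hz⟩, rfl⟩, rfl⟩
  have hXR : X ≤ S.π.range := fun _ ⟨z, _, hz⟩ => ⟨z, hz⟩
  have hm : d ≤ X.relIndex S.π.range := by
    refine le_trans ?_ (relIndex_le_of_le_right (S.alt_le_range hS) ?_)
    · have := card_le_relIndex_alt (α := Fin d) (by simp; omega) hXA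
      rwa [Fintype.card_fin] at this
    · exact index_ne_zero_of_finite
  have h1 : Nat.card X * X.relIndex S.π.range = Nat.card S.π.range := by
    rw [relIndex, ← Nat.card_congr (subgroupOfEquivOfLe hXR).toEquiv, card_mul_index]
  set ψ := S.π.comp (inclusion (inf_le_left : D₂ ≤ H)) with hψ
  have hψr : ψ.range = X := by
    ext τ
    constructor
    · rintro ⟨y, rfl⟩
      exact mem_map_of_mem _ (mem_subgroupOf.mpr y.2)
    · rintro ⟨z, hz, rfl⟩
      exact ⟨⟨(z : G), mem_subgroupOf.mp hz⟩, rfl⟩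
  have h2 : Nat.card X * Nat.card ↥(D₂ ⊓ kerK H M) = Nat.card D₂ := by
    have hker : ψ.ker = (D₂ ⊓ kerK H M).subgroupOf D₂ := by
      ext y
      rw [MonoidHom.mem_ker, mem_subgroupOf, hψ, MonoidHom.comp_apply, S.ker]
      exact ⟨fun h => ⟨y.2, h⟩, fun h => h.2⟩
    rw [← hψr, ← index_ker, hker, mul_comm,
      ← Nat.card_congr (subgroupOfEquivOfLe (inf_le_left : D₂ ⊓ kerK H M ≤ D₂)).toEquiv,
      card_mul_index]
  have hKD₂ : kerK H M ≤ D₂ := by
    have h3 := S.card_range_mul
    rw [S.card, ← hcard₂, ← h2, ← h1] at h3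
    have h4 : X.relIndex S.π.range * Nat.card (kerK H M) = d * Nat.card ↥(D₂ ⊓ kerK H M) :=
      Nat.eq_of_mul_eq_mul_left (Nat.card_pos (α := X)) (by linarith)
    have h5 : Nat.card (kerK H M) ≤ Nat.card ↥(D₂ ⊓ kerK H M) :=
      Nat.le_of_mul_le_mul_left (h4 ▸ Nat.mul_le_mul_right _ hm) (by omega)
    exact (eq_of_le_of_card_ge inf_le_right h5).ge.trans inf_le_left
  have hL : kerK H N = kerK H M := by
    refine le_antisymm ?_ (le_kerK hKH (hKD₂.trans inf_le_right) (le_normalizer_kerK H M))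
    have hLH : kerK H N ≤ H := (kerK_le H N).trans inf_le_left
    intro x hx
    have hne : ((kerK H N).subgroupOf H).map S.π = ⊥ := by
      by_contra hne
      refine hXA (le_trans (alt_le_of_normalized (by simp; omega) ?_ hne)
        (map_mono (comap_mono (kerK_le H N))))
      haveI : ((kerK H N).subgroupOf H).Normal :=
        normal_subgroupOf_of_le_normalizer (le_normalizer_kerK H N)
      refine (S.alt_le_range hS).trans ?_
      rw [MonoidHom.range_eq_map, ← normalizer_eq_top ((kerK H N).subgroupOf H)]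
      exact le_normalizer_map _
    refine (S.ker ⟨x, hLH hx⟩).mp ?_
    exact mem_bot.mp (hne ▸ mem_map_of_mem _ (mem_subgroupOf.mpr hx : (⟨x, hLH hx⟩ : H) ∈ _))
  have hK' : (kerK H M).map f.toMonoidHom = kerK M H := by
    rw [← hL, kerK_map, hback, ← hg]
  exact ⟨((kerK H M).equivMapOfInjective _ f.injective).trans (MulEquiv.subgroupCongr hK')⟩

theorem range_index_eq (s : Setup H M) (S : Side H M d) (S' : Side M H d)
    (e : kerK H M ≃* kerK M H) : S'.π.range.index = S.π.range.index := by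
  have hcard : Nat.card M = Nat.card H := by
    obtain ⟨g, hg⟩ := s.conj
    rw [hg]
    exact (Nat.card_congr (H.equivMapOfInjective _ (MulAut.conj g).injective).toEquiv).symm
  have h1 := S.card_range_mul
  have h2 := S'.card_range_mul
  rw [hcard, ← h1, ← Nat.card_congr e.toEquiv] at h2
  have h3 := Nat.eq_of_mul_eq_mul_right Nat.card_pos h2
  have h4 := card_mul_index S'.π.range
  rw [← card_mul_index S.π.range, h3] at h4
  exact Nat.eq_of_mul_eq_mul_left Nat.card_pos h4

/-- The four possibilities. -/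
theorem alternating_structure (s : Setup H M) (S : Side H M d) (S' : Side M H d)
    (hS : S.π.range.index ≤ 2) (hd : 6 ≤ d) (hK : kerK H M ≠ ⊥) :
    (S.π.range.index = 2 ∧
      Nonempty (H ≃* alternatingGroup (Fin d) × alternatingGroup (Fin (d - 1)))) ∨
    (S.π.range = ⊤ ∧
      (Nonempty (H ≃* Perm (Fin d) × Perm (Fin (d - 1))) ∨
       Nonempty (H ≃* Perm (Fin d) × alternatingGroup (Fin (d - 1))) ∨
       Nonempty (H ≃* ((Perm.sign.comp (MonoidHom.fst (Perm (Fin d)) (Perm (Fin (d - 1))))) *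
         (Perm.sign.comp (MonoidHom.snd (Perm (Fin d)) (Perm (Fin (d - 1)))))).ker))) := by
  classical
  set K := kerK H M with hKdef
  set K' := kerK M H with hK'def
  have hfree : AltFree d (H ⊓ M) := by
    rcases kerP_eq_bot_or s S hS hd with hP | hQ
    · exact altFree_inf S S' hd hP
    · exact (inf_comm M H) ▸ altFree_inf S' S hd hQ
  obtain ⟨e⟩ := exists_kerK_equiv s S hS hd hfree
  have hidx := range_index_eq s S S' e
  have hS' : S'.π.range.index ≤ 2 := hidx ▸ hS
  have hK' : K' ≠ ⊥ := fun h => hK (card_eq_one.mp (by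
    rw [Nat.card_congr e.toEquiv]; exact card_eq_one.mpr h))
  have hJ : K ⊓ K' = ⊥ := by
    rcases kerP_eq_bot_or s S hS hd with hP | hQ
    · exact inf_kerK_eq_bot s S hS S' hS' hd e hP hK
    · rw [inf_comm]; exact inf_kerK_eq_bot s.symm S' hS' S hS hd e.symm hQ hK'
  have hKH : K ≤ H := S.kerK_le_left
  have hKD : K ≤ M ⊓ H := (kerK_le H M).trans (inf_comm H M).le
  have hK'D : K' ≤ M ⊓ H := kerK_le M H
  have hAK : alternatingGroup (Fin (d - 1)) ≤ S'.img K := by
    refine S'.alt_le_img hS' hd hKD (inf_le_right.trans (le_normalizer_kerK H M)) fun hle => hK ?_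
    rwa [inf_eq_left.mpr hle] at hJ
  set C := H ⊓ centralizer (K : Set G) with hC
  have hHC : H ≤ normalizer (C : Set G) := le_trans
    (le_inf le_normalizer (CharP.le_normalizer_centralizer (le_normalizer_kerK H M)))
    inf_normalizer_le_normalizer_inf
  have hK'C : K' ≤ C := by
    refine le_inf (hK'D.trans inf_le_right) ?_
    intro y hy
    rw [mem_centralizer_iff]
    intro k hk
    have hmem : k * y * k⁻¹ * y⁻¹ ∈ K ⊓ K' := by
      refine mem_inf.mpr ⟨?_, mul_mem (conj_mem_of_le_normalizer (le_normalizer_kerK M H)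
        (hKD hk).1 hy) (inv_mem hy)⟩
      rw [show k * y * k⁻¹ * y⁻¹ = k * (y * k⁻¹ * y⁻¹) by group]
      exact mul_mem hk (conj_mem_of_le_normalizer (le_normalizer_kerK H M) (hK'D hy).2 (inv_mem hk))
    rwa [hJ, mem_bot, mul_inv_eq_one, mul_inv_eq_iff_eq_mul] at hmem
  have hCD : C ⊓ M ≤ K' := fun x hx => by
    refine S'.mem_kerK_of_commute hd hKD hAK (mem_inf.mpr ⟨hx.2, hx.1.1⟩) fun k hk => ?_
    have hc := mem_centralizer_iff.mp hx.1.2 k hk
    rw [← hc, mul_inv_cancel_right, mul_inv_cancel]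
    exact one_mem _
  have hCK : C ⊓ K = ⊥ := le_bot_iff.mp (hJ ▸ le_inf inf_le_right
    ((inf_le_inf_left C ((kerK_le H M).trans inf_le_right)).trans hCD))
  set πC := (C.subgroupOf H).map S.π with hπC
  have hAC : alternatingGroup (Fin d) ≤ πC := by
    refine alt_le_of_normalized (by simp; omega) ?_ ?_
    · haveI : (C.subgroupOf H).Normal := normal_subgroupOf_of_le_normalizer hHC
      refine (S.alt_le_range hS).trans ?_
      rw [MonoidHom.range_eq_map, ← normalizer_eq_top (C.subgroupOf H)]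
      exact le_normalizer_map _
    · intro h0
      refine hK' (le_bot_iff.mp ?_)
      rw [← hJ]
      refine le_inf (fun y hy => ?_) le_rfl
      refine (S.ker ⟨y, (hK'D hy).2⟩).mp (mem_bot.mp (h0 ▸ mem_map_of_mem _ ?_))
      exact mem_subgroupOf.mpr (hK'C hy)
  -- `H = C (H ⊓ M)`
  have hdec : ∀ h : H, ∃ c : H, (c : G) ∈ C ∧ ((c⁻¹ * h : H) : G) ∈ M := by
    intro h
    obtain ⟨σ, hσ, hσi⟩ := exists_alt_move S.i (S.π h S.i) (by simp; omega)
    obtain ⟨c, hc, hcσ⟩ := hAC hσ
    refine ⟨c, mem_subgroupOf.mp hc, (S.mem _).mp ?_⟩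
    rw [map_mul, map_inv, Perm.mul_apply, ← hσi, ← hcσ, ← Perm.mul_apply, inv_mul_cancel]
    rfl
  haveI hCn : (C.subgroupOf H).Normal := normal_subgroupOf_of_le_normalizer hHC
  set f₀ : ↥(M ⊓ H) →* H ⧸ C.subgroupOf H :=
    (QuotientGroup.mk' (C.subgroupOf H)).comp (inclusion inf_le_right)
  have hf₀ : Function.Surjective f₀ := by
    intro q
    obtain ⟨h, rfl⟩ := QuotientGroup.mk'_surjective _ q
    obtain ⟨c, hc, hm⟩ := hdec h
    refine ⟨⟨((c⁻¹ * h : H) : G), mem_inf.mpr ⟨hm, (c⁻¹ * h : H).2⟩⟩, ?_⟩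
    refine QuotientGroup.eq.mpr (mem_subgroupOf.mpr ?_)
    have := conj_mem_of_le_normalizer hHC (inv_mem h.2) hc
    simpa [mul_assoc] using this
  have hker₀ : f₀.ker ≤ S'.rho.ker := by
    intro y hy
    rw [MonoidHom.mem_ker, S'.rho_eq_one]
    exact hCD (mem_inf.mpr ⟨mem_subgroupOf.mp
      ((QuotientGroup.eq_one_iff (N := C.subgroupOf H)
        (inclusion (inf_le_right : M ⊓ H ≤ H) y)).mp (MonoidHom.mem_ker.mp hy)), y.2.1⟩)
  set σ : H →* Perm (Fin (d - 1)) :=
    (f₀.liftOfSurjective hf₀ ⟨S'.rho, hker₀⟩).comp (QuotientGroup.mk' (C.subgroupOf H)) with hσ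
  have hσD : ∀ y : ↥(M ⊓ H), σ (inclusion inf_le_right y) = S'.rho y := fun y =>
    MonoidHom.liftOfRightInverse_comp_apply f₀ (Function.surjInv hf₀)
      (Function.rightInverse_surjInv hf₀) ⟨S'.rho, hker₀⟩ y
  have hσC : ∀ c : H, (c : G) ∈ C → σ c = 1 := fun c hc => by
    rw [hσ, MonoidHom.comp_apply, (QuotientGroup.mk'_apply _ _).trans
      ((QuotientGroup.eq_one_iff c).mpr (mem_subgroupOf.mpr hc)), map_one]
  set Φ := S.π.prod σ with hΦ
  have hinj : Function.Injective Φ := by
    rw [injective_iff_map_eq_one]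
    intro h hh
    have h1 : S.π h = 1 := congrArg Prod.fst hh
    have h2 : σ h = 1 := congrArg Prod.snd hh
    have hK1 : (h : G) ∈ K := (S.ker h).mp h1
    have h3 : S'.rho ⟨(h : G), hKD hK1⟩ = 1 := (hσD ⟨(h : G), hKD hK1⟩).symm.trans h2
    have h4 : (h : G) ∈ K ⊓ K' := ⟨hK1, (S'.rho_eq_one _).mp h3⟩
    rw [hJ, mem_bot] at h4
    exact Subtype.ext h4
  have hA1 : ∀ τ ∈ alternatingGroup (Fin d), (τ, (1 : Perm (Fin (d - 1)))) ∈ Φ.range := by
    intro τ hτ
    obtain ⟨c, hc, rfl⟩ := hAC hτ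
    exact ⟨c, Prod.ext rfl (hσC c (mem_subgroupOf.mp hc))⟩
  have hA2 : ∀ τ ∈ alternatingGroup (Fin (d - 1)), ((1 : Perm (Fin d)), τ) ∈ Φ.range := by
    intro τ hτ
    obtain ⟨k, hk, rfl⟩ := hAK hτ
    exact ⟨inclusion inf_le_right k, Prod.ext ((S.ker _).mpr (mem_subgroupOf.mp hk)) (hσD k)⟩
  -- images of the two projections
  have hσr : σ.range = S'.rho.range := by
    ext τ
    constructor
    · rintro ⟨h, rfl⟩
      obtain ⟨y, hy⟩ := hf₀ (QuotientGroup.mk' _ h)
      refine ⟨y, ?_⟩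
      rw [← hσD y, hσ, MonoidHom.comp_apply, MonoidHom.comp_apply]
      exact congrArg _ hy
    · rintro ⟨y, rfl⟩
      exact ⟨_, hσD y⟩
  have hidx2 : S'.rho.range.index = S.π.range.index := by
    have h1 := card_mul_index S'.π.range
    have h2 := card_mul_index S'.rho.range
    rw [Nat.card_perm, Nat.card_fin] at h1 h2
    rw [S'.card_range_eq, hidx, ← Nat.mul_factorial_pred (by omega : d ≠ 0), mul_assoc] at h1
    have h3 := Nat.eq_of_mul_eq_mul_left (by omega : 0 < d) h1
    exact Nat.eq_of_mul_eq_mul_left Nat.card_pos (h2.trans h3.symm)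
  have hequiv : Nonempty (H ≃* Φ.range) := ⟨MonoidHom.ofInjective hinj⟩
  obtain ⟨eH⟩ := hequiv
  rcases (show S.π.range.index = 1 ∨ S.π.range.index = 2 by
    have := (index_ne_zero_of_finite (H := S.π.range)); omega) with h1 | h2
  · right
    have hπtop : S.π.range = ⊤ := index_eq_one.mp h1
    have hσtop : σ.range = ⊤ := by rw [hσr]; exact index_eq_one.mp (hidx2.trans h1)
    refine ⟨hπtop, ?_⟩
    set θ := (Perm.sign.comp (MonoidHom.fst (Perm (Fin d)) (Perm (Fin (d - 1))))) *
      (Perm.sign.comp (MonoidHom.snd (Perm (Fin d)) (Perm (Fin (d - 1))))) with hθ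
    have hθval : ∀ p, θ p = Perm.sign p.1 * Perm.sign p.2 := fun p => rfl
    have hsame : ∀ p q : Perm (Fin d) × Perm (Fin (d - 1)), p ∈ Φ.range →
        Perm.sign p.1 = Perm.sign q.1 → Perm.sign p.2 = Perm.sign q.2 → q ∈ Φ.range := by
      intro p q hp e1 e2
      have h3 : ((p.1⁻¹ * q.1, 1) : Perm (Fin d) × Perm (Fin (d - 1))) * (1, p.2⁻¹ * q.2) ∈ Φ.range :=
        mul_mem (hA1 _ (by rw [Perm.mem_alternatingGroup, map_mul, map_inv, e1, inv_mul_cancel]))
          (hA2 _ (by rw [Perm.mem_alternatingGroup, map_mul, map_inv, e2, inv_mul_cancel]))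
      have h4 := mul_mem hp h3
      rwa [show p * ((p.1⁻¹ * q.1, 1) * (1, p.2⁻¹ * q.2)) = q from Prod.ext (by simp) (by simp)] at h4
    by_cases hall : ∀ p ∈ Φ.range, θ p = 1
    · refine Or.inr (Or.inr ⟨eH.trans (MulEquiv.subgroupCongr (le_antisymm (fun p hp => hall p hp) ?_))⟩)
      intro q hq
      obtain ⟨h, hh⟩ := (hπtop ▸ mem_top q.1 : q.1 ∈ S.π.range)
      have hp : Φ h ∈ Φ.range := ⟨h, rfl⟩
      refine hsame (Φ h) q hp (by rw [← hh]; rfl) ?_
      have e1 := hall _ hp
      have e2 : θ q = 1 := hq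
      rw [hθval] at e1 e2
      rw [show (Φ h).1 = q.1 from hh] at e1
      exact mul_left_cancel (e1.trans e2.symm)
    · push Not at hall
      obtain ⟨p, hp, hpθ⟩ := hall
      refine Or.inl ⟨eH.trans ((MulEquiv.subgroupCongr ?_).trans topEquiv)⟩
      rw [eq_top_iff]
      rintro q -
      rw [hθval] at hpθ
      -- some element realises every pair of signs
      obtain ⟨h, hh⟩ := (hπtop ▸ mem_top q.1 : q.1 ∈ S.π.range)
      have hp' : Φ h ∈ Φ.range := ⟨h, rfl⟩
      rcases Int.units_eq_one_or (Perm.sign (Φ h).2 * Perm.sign q.2) with e2 | e2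
      · refine hsame (Φ h) q hp' (by rw [← hh]; rfl) ?_
        rcases Int.units_eq_one_or (Perm.sign (Φ h).2) with ea | ea <;>
          rcases Int.units_eq_one_or (Perm.sign q.2) with eb | eb <;> simp_all
      · -- correct the second sign
        have hfix : ∃ w ∈ Φ.range, Perm.sign w.1 = 1 ∧ Perm.sign w.2 = -1 := by
          haveI : Nontrivial (Fin (d - 1)) := Fin.nontrivial_iff_two_le.mpr (by omega)
          obtain ⟨τ, hτ⟩ := Perm.sign_surjective (α := Fin (d - 1)) (-1)
          obtain ⟨y, hy⟩ := (hσtop ▸ mem_top τ : τ ∈ σ.range)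
          have hy' : Φ y ∈ Φ.range := ⟨y, rfl⟩
          have hy2 : Perm.sign (Φ y).2 = -1 := by rw [show (Φ y).2 = τ from hy]; exact hτ
          rcases Int.units_eq_one_or (Perm.sign (Φ y).1) with ea | ea
          · exact ⟨_, hy', ea, hy2⟩
          · rcases Int.units_eq_one_or (Perm.sign p.1) with eb | eb
            · refine ⟨p, hp, eb, ?_⟩
              rcases Int.units_eq_one_or (Perm.sign p.2) with ec | ec
              · exact absurd (by rw [eb, ec, mul_one]) hpθ
              · exact ec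
            · refine ⟨_, mul_mem hy' hp, ?_, ?_⟩
              · rw [Prod.fst_mul, map_mul, ea, eb]; decide
              · rcases Int.units_eq_one_or (Perm.sign p.2) with ec | ec
                · rw [Prod.snd_mul, map_mul, hy2, ec, mul_one]
                · exact absurd (by rw [eb, ec]; decide) hpθ
        obtain ⟨w, hw, hw1, hw2⟩ := hfix
        refine hsame (Φ h * w) q (mul_mem hp' hw) ?_ ?_
        · rw [Prod.fst_mul, map_mul, hw1, mul_one, show (Φ h).1 = q.1 from hh]
        · rw [Prod.snd_mul, map_mul, hw2]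
          rcases Int.units_eq_one_or (Perm.sign (Φ h).2) with ea | ea <;>
            rcases Int.units_eq_one_or (Perm.sign q.2) with eb | eb <;> simp_all
  · left
    refine ⟨h2, ⟨?_⟩⟩
    have hπA : S.π.range = alternatingGroup (Fin d) := Perm.eq_alternatingGroup_of_index_eq_two h2
    have hσA : σ.range = alternatingGroup (Fin (d - 1)) := by
      rw [hσr]; exact Perm.eq_alternatingGroup_of_index_eq_two (hidx2.trans h2)
    have hr : Φ.range = (alternatingGroup (Fin d)).prod (alternatingGroup (Fin (d - 1))) := by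
      refine le_antisymm ?_ ?_
      · rintro _ ⟨h, rfl⟩
        exact mem_prod.mpr ⟨hπA ▸ ⟨h, rfl⟩, hσA ▸ ⟨h, rfl⟩⟩
      · rintro ⟨p, q⟩ hpq
        have h3 := mul_mem (hA1 p (mem_prod.mp hpq).1) (hA2 q (mem_prod.mp hpq).2)
        simpa using h3
    exact eH.trans ((MulEquiv.subgroupCongr hr).trans (prodEquiv _ _))

end Cfsg.Agent.Lib.ThompsonWielandt
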