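import Mathlib
import Cfsg.Agent.Lib.CharP.Basic
import Cfsg.Agent.Lib.Components.GenFitting

/-!
Helpers for the Thompson-Wielandt theorem: cores inside a subgroup, elements of order prime to `r`,
layers of subgroups, growth of normalisers.
-/

set_option autoImplicit false
set_option linter.style.haveILetI false

namespace Cfsg.Agent.Lib.ThompsonWielandt

open Cfsg Subgroup

variable {G : Type*} [Group G]

/-- The largest subgroup of `X` normalised by `H` (for `H` a subgroup). -/
def relCore (H X : Subgroup G) : Subgroup G :=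
  ⨅ h : H, X.comap (MulAut.conj (h : G)).toMonoidHom

theorem mem_relCore {H X : Subgroup G} {a : G} :
    a ∈ relCore H X ↔ ∀ h ∈ H, h * a * h⁻¹ ∈ X := by
  simp [relCore, mem_iInf, Subtype.forall]

theorem relCore_le (H X : Subgroup G) : relCore H X ≤ X := fun a ha => by
  simpa using mem_relCore.mp ha 1 (one_mem H)

theorem le_normalizer_relCore [Finite G] (H X : Subgroup G) :
    H ≤ normalizer (relCore H X : Set G) := by
  have key : ∀ h ∈ H, ∀ a ∈ relCore H X, h * a * h⁻¹ ∈ relCore H X := by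
    intro h hh a ha
    refine mem_relCore.mpr fun k hk => ?_
    have := mem_relCore.mp ha (k * h) (mul_mem hk hh)
    rwa [show k * (h * a * h⁻¹) * k⁻¹ = k * h * a * (k * h)⁻¹ by group]
  intro h hh
  rw [mem_normalizer_iff]
  refine fun a => ⟨key h hh a, fun ha => ?_⟩
  have := key h⁻¹ (inv_mem hh) _ ha
  rwa [show h⁻¹ * (h * a * h⁻¹) * h⁻¹⁻¹ = a by group] at this

theorem le_relCore {H X Z : Subgroup G} (hZ : Z ≤ X) (hn : H ≤ normalizer (Z : Set G)) :
    Z ≤ relCore H X := fun a ha =>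
  mem_relCore.mpr fun h hh => hZ ((mem_normalizer_iff.mp (hn hh) a).mp ha)

theorem conj_mem_of_le_normalizer {Y Z : Subgroup G} (hn : Y ≤ normalizer (Z : Set G)) {y z : G}
    (hy : y ∈ Y) (hz : z ∈ Z) : y * z * y⁻¹ ∈ Z :=
  (mem_normalizer_iff.mp (hn hy) z).mp hz

/-! ### Elements of order prime to `r` -/

/-- The generators of `res r S`. -/
def resSet (r : ℕ) (S : Subgroup G) : Set G := {x | x ∈ S ∧ (orderOf x).Coprime r}

/-- The subgroup generated by the elements of `S` of order prime to `r`. -/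
def res (r : ℕ) (S : Subgroup G) : Subgroup G := closure (resSet r S)

theorem res_le (r : ℕ) (S : Subgroup G) : res r S ≤ S := (closure_le S).mpr fun _ h => h.1

theorem orderOf_conj' (a x : G) : orderOf (a * x * a⁻¹) = orderOf x := by
  rw [← MulAut.conj_apply, MulEquiv.orderOf_eq]

theorem mem_normalizer_res [Finite G] {r : ℕ} {S : Subgroup G} {a : G}
    (h : ∀ x ∈ S, (orderOf x).Coprime r → a * x * a⁻¹ ∈ S) :
    a ∈ normalizer (res r S : Set G) := by
  set f := (MulAut.conj a).toMonoidHom with hf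
  have hle : (res r S).map f ≤ res r S := by
    rw [res, MonoidHom.map_closure, closure_le]
    rintro _ ⟨x, ⟨hx, hxo⟩, rfl⟩
    exact subset_closure ⟨h x hx hxo, (orderOf_conj' a x).symm ▸ hxo⟩
  have heq : (res r S).map f = res r S := eq_of_le_of_card_ge hle
    (Nat.card_congr ((res r S).equivMapOfInjective f (MulAut.conj a).injective).toEquiv).le
  rw [mem_normalizer_iff]
  intro z
  refine ⟨fun hz => hle ⟨z, hz, rfl⟩, fun hz => ?_⟩
  obtain ⟨w, hw, he⟩ : a * z * a⁻¹ ∈ (res r S).map f := heq.symm ▸ hz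
  have : w = z := (MulAut.conj a).injective he
  exact this ▸ hw

theorem normalizer_le_normalizer_res [Finite G] (r : ℕ) (S : Subgroup G) :
    normalizer (S : Set G) ≤ normalizer (res r S : Set G) := fun a ha =>
  mem_normalizer_res fun x hx _ => (mem_normalizer_iff.mp ha x).mp hx

theorem isPGroup_of_res_eq_bot [Finite G] {r : ℕ} [Fact r.Prime] {S : Subgroup G}
    (h : res r S = ⊥) : IsPGroup r S :=
  CharP.isPGroup_of_forall fun x hx hxo =>
    mem_bot.mp (h ▸ (subset_closure ⟨hx, hxo⟩ : x ∈ res r S))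

theorem mem_of_mem_sup [Finite G] {r : ℕ} [Fact r.Prime] {S C : Subgroup G} (hC : IsPGroup r C)
    (hn : C ≤ normalizer (S : Set G)) {z : G} (hz : z ∈ S ⊔ C) (hzo : (orderOf z).Coprime r) :
    z ∈ S := by
  rw [← SetLike.mem_coe, coe_mul_of_right_le_normalizer_left _ _ hn] at hz
  obtain ⟨s, hs, c, hc, rfl⟩ := hz
  simp only [SetLike.mem_coe] at hs hc
  set N := normalizer (S : Set G)
  have hsN : s ∈ N := le_normalizer hs
  have hcN : c ∈ N := hn hc
  haveI : (S.subgroupOf N).Normal := normal_subgroupOf_of_le_normalizer le_rfl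
  set π := QuotientGroup.mk' (S.subgroupOf N)
  have h1 : π ⟨s, hsN⟩ = 1 := (QuotientGroup.eq_one_iff _).mpr hs
  have h2 : π ⟨s * c, mul_mem hsN hcN⟩ = π ⟨c, hcN⟩ := by
    rw [show (⟨s * c, mul_mem hsN hcN⟩ : N) = ⟨s, hsN⟩ * ⟨c, hcN⟩ from rfl, map_mul, h1, one_mul]
  have d1 : orderOf (π ⟨c, hcN⟩) ∣ orderOf (s * c) := by
    rw [← h2]
    exact (orderOf_map_dvd π _).trans (by rw [Subgroup.orderOf_mk])
  have d2 : orderOf (π ⟨c, hcN⟩) ∣ orderOf c :=
    (orderOf_map_dvd π _).trans (by rw [Subgroup.orderOf_mk])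
  have hco : (orderOf (s * c)).Coprime (orderOf c) := CharP.coprime_orderOf_of_mem hC hzo hc
  have h3 : π ⟨c, hcN⟩ = 1 := orderOf_eq_one_iff.mp (Nat.eq_one_of_dvd_coprimes hco d1 d2)
  exact mul_mem hs (show c ∈ S from (QuotientGroup.eq_one_iff (⟨c, hcN⟩ : N)).mp h3)

/-! ### Cores of subgroups -/

theorem pCoreOf_le_of_normalized [Finite G] {r : ℕ} {K H : Subgroup G} (hK : K ≤ H)
    (hn : H ≤ normalizer (K : Set G)) : pCoreOf r K ≤ pCoreOf r H := by
  refine CharP.le_pCoreOf ((CharP.pCoreOf_le K).trans hK) (CharP.pCoreOf_isPGroup K) ?_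
  intro a ha
  have hle : ∀ b ∈ H, (pCoreOf r K).map (MulAut.conj b).toMonoidHom ≤ pCoreOf r K := by
    intro b hb
    refine CharP.le_pCoreOf ?_ ((CharP.pCoreOf_isPGroup K).map _) ?_
    · rintro _ ⟨x, hx, rfl⟩
      exact conj_mem_of_le_normalizer hn hb (CharP.pCoreOf_le K hx)
    · intro k hk
      rw [mem_normalizer_iff]
      have hk' : b⁻¹ * k * b ∈ K := by
        simpa using conj_mem_of_le_normalizer hn (inv_mem hb) hk
      intro z
      constructor
      · rintro ⟨x, hx, rfl⟩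
        refine ⟨b⁻¹ * k * b * x * (b⁻¹ * k * b)⁻¹,
          conj_mem_of_le_normalizer (CharP.le_normalizer_pCoreOf K) hk' hx, ?_⟩
        simp only [MulEquiv.coe_toMonoidHom, MulAut.conj_apply]
        group
      · rintro ⟨x, hx, he⟩
        refine ⟨(b⁻¹ * k * b)⁻¹ * x * (b⁻¹ * k * b)⁻¹⁻¹,
          conj_mem_of_le_normalizer (CharP.le_normalizer_pCoreOf K) (inv_mem hk') hx, ?_⟩
        simp only [MulEquiv.coe_toMonoidHom, MulAut.conj_apply] at he ⊢
        rw [show z = k⁻¹ * (k * z * k⁻¹) * k by group, ← he]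
        group
  rw [mem_normalizer_iff]
  refine fun z => ⟨fun hz => hle a ha ⟨z, hz, rfl⟩, fun hz => ?_⟩
  have := hle a⁻¹ (inv_mem ha) ⟨_, hz, rfl⟩
  simpa [mul_assoc] using this

theorem le_centralizer_of_coprime {A B : Subgroup G}
    (hA : A ≤ normalizer (B : Set G)) (hB : B ≤ normalizer (A : Set G))
    (hc : (Nat.card A).Coprime (Nat.card B)) : A ≤ centralizer (B : Set G) := by
  intro a ha
  rw [mem_centralizer_iff]
  intro b hb
  have h1 : b * a * b⁻¹ * a⁻¹ ∈ A := mul_mem (conj_mem_of_le_normalizer hB hb ha) (inv_mem ha)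
  have h2 : b * a * b⁻¹ * a⁻¹ ∈ B := by
    rw [show b * a * b⁻¹ * a⁻¹ = b * (a * b⁻¹ * a⁻¹) by group]
    exact mul_mem hb (conj_mem_of_le_normalizer hA ha (inv_mem hb))
  have h3 : b * a * b⁻¹ * a⁻¹ ∈ A ⊓ B := ⟨h1, h2⟩
  rw [(disjoint_of_coprime_natCard hc).eq_bot, mem_bot, mul_inv_eq_one, mul_inv_eq_iff_eq_mul] at h3
  exact h3

/-- Growth of normalisers in a `q`-group. -/
theorem le_of_inf_normalizer_le [Finite G] {q : ℕ} [Fact q.Prime] {B F : Subgroup G}
    (hB : IsPGroup q B) (hF : IsPGroup q F) (hn : F ≤ normalizer (B : Set G))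
    (h : B ⊓ normalizer (F : Set G) ≤ F) : B ≤ F := by
  set J := F ⊔ B with hJ
  have hJp : IsPGroup q J := IsPGroup.to_sup_of_normal_right' hF hB hn
  haveI : Group.IsNilpotent J := hJp.isNilpotent
  by_contra hle
  have hne : F.subgroupOf J ≠ ⊤ := fun e => hle (le_sup_right.trans (subgroupOf_eq_top.mp e))
  obtain ⟨⟨x, hxJ⟩, hxN, hxF⟩ := SetLike.exists_of_lt
    (Group.normalizerCondition_of_isNilpotent (F.subgroupOf J) (lt_top_iff_ne_top.mpr hne))
  have hxn : x ∈ normalizer (F : Set G) := by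
    rw [mem_normalizer_iff]
    intro z
    constructor
    · intro hz
      exact mem_subgroupOf.mp ((mem_normalizer_iff.mp hxN
        (⟨z, mem_sup_left hz⟩ : J)).mp (mem_subgroupOf.mpr hz))
    · intro hz
      have hzJ : z ∈ J := by
        have h1 : x⁻¹ * (x * z * x⁻¹) * x ∈ J :=
          mul_mem (mul_mem (inv_mem hxJ) (mem_sup_left hz)) hxJ
        simpa [mul_assoc] using h1
      exact mem_subgroupOf.mp ((mem_normalizer_iff.mp hxN (⟨z, hzJ⟩ : J)).mpr
        (mem_subgroupOf.mpr hz))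
  have hx2 : x ∈ ((F ⊔ B : Subgroup G) : Set G) := hxJ
  rw [coe_mul_of_left_le_normalizer_right _ _ hn] at hx2
  obtain ⟨f, hf, b, hb, rfl⟩ := hx2
  simp only [SetLike.mem_coe] at hf hb
  refine hxF (mem_subgroupOf.mpr (mul_mem hf (h ⟨hb, ?_⟩)))
  simpa using mul_mem (inv_mem (le_normalizer hf)) hxn

/-! ### Layers -/

/-- The layer of `X` as a subgroup of `G`. -/
def lay (X : Subgroup G) : Subgroup G := (layer X).map X.subtype

theorem lay_le (X : Subgroup G) : lay X ≤ X := map_subtype_le _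

theorem lay_eq {K H : Subgroup G} (h : K ≤ H) :
    lay K = ((layer (K.subgroupOf H)).map (K.subgroupOf H).subtype).map H.subtype := by
  rw [lay, ← Components.layer_map_equiv (subgroupOfEquivOfLe h), Subgroup.map_map,
    Subgroup.map_map]
  rfl

theorem lay_mono {K H : Subgroup G} (h : K ≤ H) (hn : H ≤ normalizer (K : Set G)) :
    lay K ≤ lay H := by
  haveI : (K.subgroupOf H).Normal := normal_subgroupOf_of_le_normalizer hn
  rw [lay_eq h]
  exact map_mono (Components.map_layer_le_layer (Subgroup.Normal.isSubnormal inferInstance))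

theorem lay_le_lay_of_le {K H : Subgroup G} (h : K ≤ H) (hE : lay H ≤ K) : lay H ≤ lay K := by
  rw [lay_eq h]
  exact map_mono (Components.layer_le_map_layer fun x hx => mem_subgroupOf.mpr (hE ⟨x, hx, rfl⟩))

theorem le_normalizer_lay (H : Subgroup G) : H ≤ normalizer (lay H : Set G) := by
  haveI : (layer H).Normal := Components.layer_normal
  refine le_trans ?_ (le_normalizer_map (H := layer H) H.subtype)
  rw [normalizer_eq_top, ← MonoidHom.range_eq_map, range_subtype]

theorem lay_le_sup_centralizer [Finite G] {K H : Subgroup G} (hK : K ≤ H)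
    (hn : H ≤ normalizer (K : Set G)) : lay H ≤ K ⊔ (H ⊓ centralizer (K : Set G)) := by
  haveI : (K.subgroupOf H).Normal := normal_subgroupOf_of_le_normalizer hn
  rw [lay, map_le_iff_le_comap, Components.layer_le_iff]
  intro L hL x hx
  rcases Components.isComponent_le_or_commutator_eq_bot hL
    (Subgroup.Normal.isSubnormal (inferInstance : (K.subgroupOf H).Normal)) with h | h
  · exact mem_sup_left (mem_subgroupOf.mp (h hx))
  · refine mem_sup_right ⟨x.2, mem_centralizer_iff.mpr fun k hk => ?_⟩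
    exact congrArg Subtype.val (mem_centralizer_iff.mp
      (commutator_eq_bot_iff_le_centralizer.mp h hx) ⟨k, hK hk⟩ (mem_subgroupOf.mpr hk))

end Cfsg.Agent.Lib.ThompsonWielandt
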