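import Cfsg.Agent.Lib.ThompsonWielandt.Basic

/-!
The Thompson-Wielandt theorem for two conjugate maximal subgroups `H`, `M` of trivial core:
with `K` the core of `H ⊓ M` in `H` and `P` the largest subgroup of the core of `H ⊓ M` in `M`
normalised by `H` (and `K'`, `Q` symmetrically), if `P` and `Q` are nontrivial then `F*(H)` is an
`r`-group and `P` or `Q` is an `r`-group.
-/

set_option autoImplicit false
set_option linter.style.haveILetI false

namespace Cfsg.Agent.Lib.ThompsonWielandt

open Cfsg Subgroup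

variable {G : Type*} [Group G] [Finite G]

/-- Two conjugate maximal subgroups without common normal subgroup. -/
structure Setup (H M : Subgroup G) : Prop where
  maxH : IsCoatom H
  maxM : IsCoatom M
  ne : H ≠ M
  coreH : ∀ N : Subgroup G, N.Normal → N ≤ H → N = ⊥
  coreM : ∀ N : Subgroup G, N.Normal → N ≤ M → N = ⊥
  conj : ∃ g : G, M = H.map (MulAut.conj g).toMonoidHom

/-- The core of `H ⊓ M` in `H`. -/
def kerK (H M : Subgroup G) : Subgroup G := relCore H (H ⊓ M)

/-- The largest `H`-invariant subgroup of the core of `H ⊓ M` in `M`. -/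
def kerP (H M : Subgroup G) : Subgroup G := relCore H (kerK M H)

omit [Finite G] in
theorem kerK_le (H M : Subgroup G) : kerK H M ≤ H ⊓ M := relCore_le _ _

theorem le_normalizer_kerK (H M : Subgroup G) : H ≤ normalizer (kerK H M : Set G) :=
  le_normalizer_relCore _ _

theorem le_kerK {H M Z : Subgroup G} (hZH : Z ≤ H) (hZM : Z ≤ M)
    (hn : H ≤ normalizer (Z : Set G)) : Z ≤ kerK H M :=
  le_relCore (le_inf hZH hZM) hn

omit [Finite G] in
theorem kerP_le (H M : Subgroup G) : kerP H M ≤ kerK M H := relCore_le _ _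

omit [Finite G] in
theorem kerP_le_inf (H M : Subgroup G) : kerP H M ≤ H ⊓ M :=
  (kerP_le H M).trans ((kerK_le M H).trans (inf_comm M H).le)

theorem le_normalizer_kerP (H M : Subgroup G) : H ≤ normalizer (kerP H M : Set G) :=
  le_normalizer_relCore _ _

theorem kerP_le_kerK (H M : Subgroup G) : kerP H M ≤ kerK H M :=
  le_kerK ((kerP_le_inf H M).trans inf_le_left) ((kerP_le_inf H M).trans inf_le_right)
    (le_normalizer_kerP H M)

namespace Setup

variable {H M : Subgroup G}

omit [Finite G] in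
theorem symm (s : Setup H M) : Setup M H where
  maxH := s.maxM
  maxM := s.maxH
  ne := s.ne.symm
  coreH := s.coreM
  coreM := s.coreH
  conj := by
    obtain ⟨g, hg⟩ := s.conj
    refine ⟨g⁻¹, ?_⟩
    rw [hg, Subgroup.map_map]
    ext x
    simp [mul_assoc]

omit [Finite G] in
theorem normalizer_eq (s : Setup H M) {X : Subgroup G} (hX : X ≠ ⊥) (hle : X ≤ H)
    (hn : H ≤ normalizer (X : Set G)) : normalizer (X : Set G) = H := by
  rcases eq_or_lt_of_le hn with h | h
  · exact h.symm
  · exfalso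
    have ht := s.maxH.2 _ h
    exact hX (s.coreH X (normalizer_eq_top_iff.mp ht) hle)

omit [Finite G] in
theorem le_of_le_normalizer (s : Setup H M) {X Y : Subgroup G} (hX : X ≠ ⊥) (hle : X ≤ H)
    (hn : H ≤ normalizer (X : Set G)) (hY : Y ≤ normalizer (X : Set G)) : Y ≤ H :=
  hY.trans (s.normalizer_eq hX hle hn).le

omit [Finite G] in
theorem eq_bot_of_normalized (s : Setup H M) {X : Subgroup G} (hle : X ≤ H)
    (hH : H ≤ normalizer (X : Set G)) (hM : M ≤ normalizer (X : Set G)) : X = ⊥ := by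
  by_contra hX
  have h := s.le_of_le_normalizer hX hle hH hM
  rcases eq_or_lt_of_le h with e | e
  · exact s.ne e.symm
  · exact s.maxH.1 (s.maxM.2 H e)

theorem card_pCoreOf_eq (s : Setup H M) (q : ℕ) :
    Nat.card (pCoreOf q M) = Nat.card (pCoreOf q H) := by
  obtain ⟨g, hg⟩ := s.conj
  set e : H ≃* M := (H.equivMapOfInjective _ (MulAut.conj g).injective).trans
    (MulEquiv.subgroupCongr hg.symm)
  have h1 : ∀ X : Subgroup G, Nat.card (pCoreOf q X) = Nat.card (pCore q X) := fun X =>
    (Nat.card_congr ((pCore q X).equivMapOfInjective _ X.subtype_injective).toEquiv).symm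
  rw [h1, h1, ← PSolvable.map_pCore_equiv (p := q) e]
  exact (Nat.card_congr ((pCore q H).equivMapOfInjective _ e.injective).toEquiv).symm

/-- `O_q(H)` and `O_q(M)` can only be nested if trivial. -/
theorem pCoreOf_eq_bot_of_le (s : Setup H M) {q : ℕ} (h : pCoreOf q H ≤ pCoreOf q M) :
    pCoreOf q H = ⊥ := by
  have he := eq_of_le_of_card_ge h (s.card_pCoreOf_eq q).le
  exact s.eq_bot_of_normalized (CharP.pCoreOf_le H) (CharP.le_normalizer_pCoreOf H)
    (he ▸ CharP.le_normalizer_pCoreOf M)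

theorem centralizer_kerK_le (s : Setup H M) (hP : kerP H M ≠ ⊥) :
    M ⊓ centralizer (kerK M H : Set G) ≤ kerK M H := by
  refine le_kerK inf_le_left ?_ ?_
  · refine s.le_of_le_normalizer hP ((kerP_le_inf H M).trans inf_le_left) (le_normalizer_kerP H M) ?_
    exact inf_le_right.trans ((centralizer_le (kerP_le H M)).trans (centralizer_le_normalizer _))
  · exact le_trans (le_inf le_normalizer (CharP.le_normalizer_centralizer (le_normalizer_kerK M H)))
      (inf_normalizer_le_normalizer_inf (H := M) (K := centralizer (kerK M H : Set G)))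

theorem lay_le_lay (s : Setup H M) (hP : kerP H M ≠ ⊥) (hQ : kerP M H ≠ ⊥) :
    lay H ≤ lay M := by
  have hK : kerK H M ≤ H := (kerK_le H M).trans inf_le_left
  have hK' : kerK M H ≤ H ⊓ M := (kerK_le M H).trans (inf_comm M H).le
  -- the layer of `H` lies in `M`
  have hM : lay H ≤ M := by
    refine (lay_le_sup_centralizer hK (le_normalizer_kerK H M)).trans
      (sup_le ((kerK_le H M).trans inf_le_right) ?_)
    refine (s.symm).le_of_le_normalizer hQ ((kerP_le_inf M H).trans inf_le_left)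
      (le_normalizer_kerP M H) ?_
    exact inf_le_right.trans ((centralizer_le (kerP_le M H)).trans (centralizer_le_normalizer _))
  have h1 : lay H ≤ kerK H M := le_kerK (lay_le H) hM (le_normalizer_lay H)
  have hD : H ⊓ M ≤ normalizer (kerK H M : Set G) := inf_le_left.trans (le_normalizer_kerK H M)
  have hD' : H ⊓ M ≤ normalizer (kerK M H : Set G) := inf_le_right.trans (le_normalizer_kerK M H)
  have h2 : lay H ≤ lay (H ⊓ M) :=
    (lay_le_lay_of_le hK h1).trans (lay_mono (kerK_le H M) hD)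
  have h3 : lay (H ⊓ M) ≤ kerK M H := by
    refine (lay_le_sup_centralizer hK' hD').trans (sup_le le_rfl ?_)
    exact le_trans (inf_le_inf_right _ inf_le_right) (s.centralizer_kerK_le hP)
  exact h2.trans ((lay_le_lay_of_le hK' h3).trans
    (lay_mono ((kerK_le M H).trans inf_le_left) (le_normalizer_kerK M H)))

theorem lay_eq_bot (s : Setup H M) (hP : kerP H M ≠ ⊥) (hQ : kerP M H ≠ ⊥) : lay H = ⊥ := by
  have h : lay H = lay M := le_antisymm (s.lay_le_lay hP hQ) (s.symm.lay_le_lay hQ hP)
  exact s.eq_bot_of_normalized (lay_le H) (le_normalizer_lay H) (h ▸ le_normalizer_lay M)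

theorem exists_prime_inf_ne_bot (s : Setup H M) (hP : kerP H M ≠ ⊥) (hQ : kerP M H ≠ ⊥) :
    ∃ r : ℕ, r.Prime ∧ kerP H M ⊓ pCoreOf r H ≠ ⊥ := by
  have hl : layer H = ⊥ := by
    have h := s.lay_eq_bot hP hQ
    rwa [lay, map_eq_bot_iff_of_injective _ H.subtype_injective] at h
  have hPH : kerP H M ≤ H := (kerP_le_inf H M).trans inf_le_left
  set P := (kerP H M).subgroupOf H with hPdef
  haveI hPn : P.Normal := normal_subgroupOf_of_le_normalizer (le_normalizer_kerP H M)
  have hFn : (fittingSubgroup H).Normal := Components.fittingSubgroup_normal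
  have hne : P ⊓ fittingSubgroup H ≠ ⊥ := by
    intro h0
    refine hP ?_
    have hPC : P ≤ centralizer (generalizedFittingSubgroup H : Set H) := by
      rw [generalizedFittingSubgroup, hl, bot_sup_eq]
      refine commutator_eq_bot_iff_le_centralizer.mp (le_bot_iff.mp ?_)
      haveI := hFn
      exact h0 ▸ commutator_le_inf P (fittingSubgroup H)
    have hle : P ≤ fittingSubgroup H := by
      have := hPC.trans Components.centralizer_generalizedFittingSubgroup_le
      rwa [generalizedFittingSubgroup, hl, bot_sup_eq] at this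
    rw [inf_eq_left.mpr hle] at h0
    rw [← map_subgroupOf_eq_of_le hPH, ← hPdef, h0, Subgroup.map_bot]
  set F := fittingSubgroup H
  obtain ⟨r, hr, hrd⟩ := Nat.exists_prime_and_dvd (n := Nat.card ↥(P ⊓ F))
    fun h => hne (card_eq_one.mp h)
  haveI := Fact.mk hr
  obtain ⟨x, hx⟩ := exists_prime_orderOf_dvd_card' (G := ↥(P ⊓ F)) r hrd
  refine ⟨r, hr, fun h => ?_⟩
  haveI := hFn
  haveI : Group.IsNilpotent F := Components.fittingSubgroup_isNilpotent
  obtain ⟨S⟩ : Nonempty (Sylow r F) := inferInstance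
  haveI hSn : (S : Subgroup F).Normal :=
    Sylow.normal_of_normalizerCondition Group.normalizerCondition_of_isNilpotent S
  haveI : (S : Subgroup F).Characteristic := Sylow.characteristic_of_normal S inferInstance
  have hxS : (⟨((x : ↥(P ⊓ F)) : H), x.2.2⟩ : F) ∈ (S : Subgroup F) := by
    have hp : IsPGroup r (zpowers (⟨((x : ↥(P ⊓ F)) : H), x.2.2⟩ : F)) :=
      IsPGroup.of_card (n := 1) (by
        rw [Nat.card_zpowers, Subgroup.orderOf_mk, Subgroup.orderOf_coe, hx, pow_one])
    obtain ⟨T, hT⟩ := hp.exists_le_sylow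
    haveI : Subsingleton (Sylow r F) :=
      @Unique.instSubsingleton _ (Sylow.unique_of_normal S hSn)
    rw [Subsingleton.elim T S] at hT
    exact hT (mem_zpowers _)
  have hcore : ((x : ↥(P ⊓ F)) : H) ∈ pCore r H := by
    haveI : ((S : Subgroup F).map F.subtype).Normal := inferInstance
    exact PSolvable.le_pCore (S.2.map F.subtype) ⟨⟨_, x.2.2⟩, hxS, rfl⟩
  have hmem : (((x : ↥(P ⊓ F)) : H) : G) ∈ kerP H M ⊓ pCoreOf r H :=
    ⟨mem_subgroupOf.mp x.2.1, ⟨_, hcore, rfl⟩⟩
  rw [h, mem_bot] at hmem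
  have hx1 : x = 1 := Subtype.ext (Subtype.ext hmem)
  rw [hx1, orderOf_one] at hx
  exact hr.ne_one hx.symm

theorem pCoreOf_eq_bot_of_ne (s : Setup H M) {r q : ℕ} [Fact r.Prime] [Fact q.Prime] (hqr : q ≠ r)
    (hR : kerP H M ⊓ pCoreOf r H ≠ ⊥) : pCoreOf q H = ⊥ := by
  set R := kerP H M ⊓ pCoreOf r H with hRdef
  set A := pCoreOf q H
  set B := pCoreOf q M
  set T := pCoreOf q (H ⊓ M)
  set Tr := pCoreOf r (H ⊓ M)
  set Br := pCoreOf r M
  have hco : ∀ {X Y : Subgroup G}, IsPGroup q X → IsPGroup r Y →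
      (Nat.card X).Coprime (Nat.card Y) := fun hX hY => IsPGroup.coprime_card_of_ne q r hqr _ _ hX hY
  have hRn : H ≤ normalizer (R : Set G) := le_trans
    (le_inf (le_normalizer_kerP H M) (CharP.le_normalizer_pCoreOf H))
    inf_normalizer_le_normalizer_inf
  have hRp : IsPGroup r R := (CharP.pCoreOf_isPGroup H).to_le inf_le_right
  have hRD : R ≤ H ⊓ M := inf_le_left.trans (kerP_le_inf H M)
  have hRH : R ≤ H := hRD.trans inf_le_left
  have hRTr : R ≤ Tr := CharP.le_pCoreOf hRD hRp (inf_le_left.trans hRn)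
  have hK'M : kerK M H ≤ M := (kerK_le M H).trans inf_le_left
  have hRBr : R ≤ Br :=
    (CharP.le_pCoreOf (inf_le_left.trans (kerP_le H M)) hRp
      (((kerK_le M H).trans inf_le_right).trans hRn)).trans
      (pCoreOf_le_of_normalized hK'M (le_normalizer_kerK M H))
  have hCR : centralizer (R : Set G) ≤ H :=
    s.le_of_le_normalizer hR hRH hRn (centralizer_le_normalizer _)
  -- `B ≤ T`
  have hBH : B ≤ H := le_trans ((le_centralizer_of_coprime
    ((CharP.pCoreOf_le M).trans (CharP.le_normalizer_pCoreOf M))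
    ((CharP.pCoreOf_le M).trans (CharP.le_normalizer_pCoreOf M))
    (hco (CharP.pCoreOf_isPGroup M) (CharP.pCoreOf_isPGroup M))).trans (centralizer_le hRBr)) hCR
  have hBT : B ≤ T := CharP.le_pCoreOf (le_inf hBH (CharP.pCoreOf_le M))
    (CharP.pCoreOf_isPGroup M) (inf_le_right.trans (CharP.le_normalizer_pCoreOf M))
  -- `T` centralises `O_r(M)`
  have hTTr : Tr ≤ centralizer (T : Set G) := le_centralizer_iff.mp (le_centralizer_of_coprime
    ((CharP.pCoreOf_le _).trans (CharP.le_normalizer_pCoreOf _))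
    ((CharP.pCoreOf_le _).trans (CharP.le_normalizer_pCoreOf _))
    (hco (CharP.pCoreOf_isPGroup _) (CharP.pCoreOf_isPGroup _)))
  have hTc : T ≤ centralizer (Br : Set G) := by
    refine Coprime.thompson_PxQ (p := r) (P := Tr) (CharP.pCoreOf_isPGroup _) ?_
      (CharP.pCoreOf_isPGroup M) hTTr
      (((CharP.pCoreOf_le _).trans inf_le_right).trans (CharP.le_normalizer_pCoreOf M))
      (((CharP.pCoreOf_le _).trans inf_le_right).trans (CharP.le_normalizer_pCoreOf M)) ?_
    · obtain ⟨k, hk⟩ := IsPGroup.iff_card.mp (CharP.pCoreOf_isPGroup (p := q) (H ⊓ M))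
      rw [hk]
      exact ((Nat.coprime_primes (Fact.out) (Fact.out)).mpr hqr).pow_left k
    · have h1 : Br ⊓ centralizer (Tr : Set G) ≤ Br ⊓ H :=
        inf_le_inf_left _ ((centralizer_le hRTr).trans hCR)
      refine (h1.trans ?_).trans hTTr
      refine CharP.le_pCoreOf (le_inf inf_le_right (inf_le_left.trans (CharP.pCoreOf_le M)))
        ((CharP.pCoreOf_isPGroup M).to_le inf_le_left) ?_
      exact le_trans (le_inf (inf_le_right.trans (CharP.le_normalizer_pCoreOf M))
        (inf_le_left.trans le_normalizer)) inf_normalizer_le_normalizer_inf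
  -- `T = B`
  set U := M ⊓ centralizer (Br : Set G)
  have hUK : U ≤ kerK M H := le_kerK inf_le_left
    (inf_le_right.trans ((centralizer_le hRBr).trans hCR))
    (le_trans (le_inf le_normalizer
      (CharP.le_normalizer_centralizer (CharP.le_normalizer_pCoreOf M)))
      inf_normalizer_le_normalizer_inf)
  have hTU : T ≤ kerK M H :=
    (le_inf ((CharP.pCoreOf_le _).trans inf_le_right) hTc : T ≤ U).trans hUK
  have hTB : T ≤ B := (CharP.le_pCoreOf hTU (CharP.pCoreOf_isPGroup _)
    (((kerK_le M H).trans (inf_comm M H).le).trans (CharP.le_normalizer_pCoreOf _))).trans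
    (pCoreOf_le_of_normalized hK'M (le_normalizer_kerK M H))
  rcases eq_or_ne B ⊥ with hB | hB
  · refine eq_bot_of_card_eq _ ?_
    rw [← s.card_pCoreOf_eq q]
    exact card_eq_one.mpr hB
  refine s.pCoreOf_eq_bot_of_le (le_of_inf_normalizer_le (CharP.pCoreOf_isPGroup H)
    (CharP.pCoreOf_isPGroup M) (hBH.trans (CharP.le_normalizer_pCoreOf H)) ?_)
  rw [s.symm.normalizer_eq hB (CharP.pCoreOf_le M) (CharP.le_normalizer_pCoreOf M)]
  refine le_trans ?_ hTB
  refine CharP.le_pCoreOf (le_inf (inf_le_left.trans (CharP.pCoreOf_le H)) inf_le_right)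
    ((CharP.pCoreOf_isPGroup H).to_le inf_le_left) ?_
  exact le_trans (le_inf (inf_le_left.trans (CharP.le_normalizer_pCoreOf H))
    (inf_le_right.trans le_normalizer)) inf_normalizer_le_normalizer_inf

/-- If `P` is not an `r`-group then `O_r(M)` lies in `H`. -/
theorem pCoreOf_le_of_res_ne_bot (s : Setup H M) {r : ℕ} [Fact r.Prime]
    (h : res r (kerP H M) ≠ ⊥) : pCoreOf r M ≤ H := by
  have hPH : kerP H M ≤ H := (kerP_le_inf H M).trans inf_le_left
  have hK'H : kerK M H ≤ H := (kerK_le M H).trans inf_le_right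
  refine s.le_of_le_normalizer h ((res_le r _).trans hPH)
    ((le_normalizer_kerP H M).trans (normalizer_le_normalizer_res r _)) fun b hb => ?_
  refine mem_normalizer_res fun x hx hxo => ?_
  have hxM : x ∈ M := (kerP_le_inf H M hx).2
  have hbM : b ∈ M := CharP.pCoreOf_le M hb
  have hc : b * x * b⁻¹ * x⁻¹ ∈ pCoreOf r M ⊓ kerK M H := by
    refine mem_inf.mpr ⟨?_, mul_mem (conj_mem_of_le_normalizer (le_normalizer_kerK M H) hbM (kerP_le H M hx))
      (inv_mem (kerP_le H M hx))⟩
    rw [show b * x * b⁻¹ * x⁻¹ = b * (x * b⁻¹ * x⁻¹) by group]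
    exact mul_mem hb
      (conj_mem_of_le_normalizer (CharP.le_normalizer_pCoreOf M) hxM (inv_mem hb))
  refine mem_of_mem_sup ((CharP.pCoreOf_isPGroup (p := r) M).to_le
    (inf_le_left (b := kerK M H)))
    (inf_le_right.trans (hK'H.trans (le_normalizer_kerP H M))) ?_
    (by rwa [orderOf_conj'])
  have := mul_mem (mem_sup_right hc : _ ∈ kerP H M ⊔ (pCoreOf r M ⊓ kerK M H)) (mem_sup_left hx)
  rwa [inv_mul_cancel_right] at this

theorem res_eq_bot_or (s : Setup H M) {r : ℕ} [Fact r.Prime] (hA : pCoreOf r H ≠ ⊥) :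
    res r (kerP H M) = ⊥ ∨ res r (kerP M H) = ⊥ := by
  by_contra hh
  push Not at hh
  obtain ⟨hP, hQ⟩ := hh
  set A := pCoreOf r H with hAdef
  set W := res r (kerP H M) with hW
  have hPH : kerP H M ≤ H := (kerP_le_inf H M).trans inf_le_left
  have hK'H : kerK M H ≤ H := (kerK_le M H).trans inf_le_right
  have hK'M : kerK M H ≤ M := (kerK_le M H).trans inf_le_left
  have hAM : A ≤ M := s.symm.pCoreOf_le_of_res_ne_bot hQ
  have hAH : A ≤ H := CharP.pCoreOf_le H
  set R := relCore M (M ⊓ normalizer (W : Set G))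
  have hAR : A ≤ R := by
    intro a ha
    refine mem_relCore.mpr fun m hm =>
      mem_inf.mpr ⟨mul_mem (mul_mem hm (hAM ha)) (inv_mem hm), ?_⟩
    refine mem_normalizer_res fun x hx hxo => ?_
    set z := m⁻¹ * x * m with hz
    have hzK : z ∈ kerK M H := by
      simpa [hz] using conj_mem_of_le_normalizer (le_normalizer_kerK M H) (inv_mem hm)
        (kerP_le H M hx)
    set c := a * z * a⁻¹ * z⁻¹ with hc
    have hcm : c ∈ A ⊓ kerK M H := by
      refine mem_inf.mpr ⟨?_, mul_mem (conj_mem_of_le_normalizer (le_normalizer_kerK M H) (hAM ha) hzK)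
        (inv_mem hzK)⟩
      rw [hc, show a * z * a⁻¹ * z⁻¹ = a * (z * a⁻¹ * z⁻¹) by group]
      exact mul_mem ha (conj_mem_of_le_normalizer (CharP.le_normalizer_pCoreOf H) (hK'H hzK)
        (inv_mem ha))
    set C := (A ⊓ kerK M H).map (MulAut.conj m).toMonoidHom
    have hC : IsPGroup r C := ((CharP.pCoreOf_isPGroup H).to_le inf_le_left).map _
    have hCK : C ≤ normalizer (kerP H M : Set G) := by
      refine le_trans ?_ (hK'H.trans (le_normalizer_kerP H M))
      rintro _ ⟨d, hd, rfl⟩
      exact conj_mem_of_le_normalizer (le_normalizer_kerK M H) hm hd.2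
    refine mem_of_mem_sup hC hCK ?_ (by rwa [orderOf_conj'])
    have h1 : m * a * m⁻¹ * x * (m * a * m⁻¹)⁻¹ = m * c * m⁻¹ * x := by rw [hc, hz]; group
    rw [h1]
    exact mul_mem (mem_sup_right ⟨c, hcm, rfl⟩) (mem_sup_left hx)
  have hRK : R ≤ kerK M H := le_kerK ((relCore_le _ _).trans inf_le_left)
    (((relCore_le _ _).trans inf_le_right).trans
      (s.normalizer_eq hP ((res_le r _).trans hPH)
        ((le_normalizer_kerP H M).trans (normalizer_le_normalizer_res r _))).le)
    (le_normalizer_relCore _ _)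
  refine hA (s.pCoreOf_eq_bot_of_le ?_)
  exact (CharP.le_pCoreOf (hAR.trans hRK) (CharP.pCoreOf_isPGroup H)
    (hK'H.trans (CharP.le_normalizer_pCoreOf H))).trans
    (pCoreOf_le_of_normalized hK'M (le_normalizer_kerK M H))

/-- The Thompson-Wielandt theorem. -/
theorem thompson_wielandt (s : Setup H M) (hP : kerP H M ≠ ⊥) (hQ : kerP M H ≠ ⊥) :
    ∃ r : ℕ, r.Prime ∧ kerP H M ⊓ pCoreOf r H ≠ ⊥ ∧
      generalizedFittingSubgroup H = pCore r H ∧
      (IsPGroup r (kerP H M) ∨ IsPGroup r (kerP M H)) := by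
  obtain ⟨r, hr, hR⟩ := s.exists_prime_inf_ne_bot hP hQ
  haveI := Fact.mk hr
  refine ⟨r, hr, hR, ?_, (s.res_eq_bot_or fun h => hR (by rw [h, inf_bot_eq])).imp
    isPGroup_of_res_eq_bot isPGroup_of_res_eq_bot⟩
  have hl : layer H = ⊥ := by
    have h := s.lay_eq_bot hP hQ
    rwa [lay, map_eq_bot_iff_of_injective _ H.subtype_injective] at h
  rw [generalizedFittingSubgroup, hl, bot_sup_eq]
  refine le_antisymm ?_ (Components.pCore_le_fittingSubgroup r)
  rw [Components.fittingSubgroup_eq_iSup_pCore, iSup_le_iff]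
  rintro ⟨q, hq⟩
  haveI := Fact.mk (Nat.prime_of_mem_primeFactors hq)
  rcases eq_or_ne q r with h | h
  · subst h; exact le_rfl
  · have h0 : pCore q H = ⊥ := (map_eq_bot_iff_of_injective _ H.subtype_injective).mp
      (s.pCoreOf_eq_bot_of_ne h hR)
    show pCore q H ≤ _
    rw [h0]; exact bot_le

/-- If the Fitting subgroup of `H ⊓ M` lies in `K` then it is trivial. -/
theorem pCoreOf_inf_eq_bot (s : Setup H M) {q : ℕ} [Fact q.Prime]
    (h : pCoreOf q (H ⊓ M) ≤ kerK H M) : pCoreOf q (H ⊓ M) = ⊥ := by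
  set F := pCoreOf q (H ⊓ M)
  have hKH : kerK H M ≤ H := (kerK_le H M).trans inf_le_left
  have hFA : F ≤ pCoreOf q H :=
    (CharP.le_pCoreOf h (CharP.pCoreOf_isPGroup _)
      ((kerK_le H M).trans (CharP.le_normalizer_pCoreOf _))).trans
      (pCoreOf_le_of_normalized hKH (le_normalizer_kerK H M))
  have hFn : H ≤ normalizer (F : Set G) := by
    intro a ha
    have hle : ∀ b ∈ H, ∀ z ∈ F, b * z * b⁻¹ ∈ F := by
      intro b hb z hz
      have hz1 : z ∈ pCoreOf q (kerK H M) := CharP.le_pCoreOf h (CharP.pCoreOf_isPGroup _)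
        ((kerK_le H M).trans (CharP.le_normalizer_pCoreOf _)) hz
      have hle2 : pCoreOf q (kerK H M) ≤ F :=
        pCoreOf_le_of_normalized (kerK_le H M) (inf_le_left.trans (le_normalizer_kerK H M))
      refine hle2 (CharP.le_pCoreOf ?_ ((CharP.pCoreOf_isPGroup (kerK H M)).map
        (MulAut.conj b).toMonoidHom) ?_ ⟨z, hz1, rfl⟩)
      · rintro _ ⟨w, hw, rfl⟩
        exact conj_mem_of_le_normalizer (le_normalizer_kerK H M) hb (CharP.pCoreOf_le _ hw)
      · refine le_trans ?_ (le_normalizer_map _)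
        intro k hk
        refine ⟨b⁻¹ * k * b, CharP.le_normalizer_pCoreOf _ ?_, by simp [mul_assoc]⟩
        simpa using conj_mem_of_le_normalizer (le_normalizer_kerK H M) (inv_mem hb) hk
    rw [mem_normalizer_iff]
    refine fun z => ⟨hle a ha z, fun hz => ?_⟩
    simpa [mul_assoc] using hle a⁻¹ (inv_mem ha) _ hz
  by_contra hF
  have hB : pCoreOf q M ≤ F := by
    refine le_of_inf_normalizer_le (CharP.pCoreOf_isPGroup M) (CharP.pCoreOf_isPGroup _)
      (((CharP.pCoreOf_le _).trans inf_le_right).trans (CharP.le_normalizer_pCoreOf M)) ?_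
    rw [s.normalizer_eq hF ((CharP.pCoreOf_le _).trans inf_le_left) hFn]
    refine CharP.le_pCoreOf (le_inf inf_le_right (inf_le_left.trans (CharP.pCoreOf_le M)))
      ((CharP.pCoreOf_isPGroup M).to_le inf_le_left) ?_
    exact le_trans (le_inf (inf_le_right.trans (CharP.le_normalizer_pCoreOf M))
      (inf_le_left.trans le_normalizer)) inf_normalizer_le_normalizer_inf
  have he : pCoreOf q H = pCoreOf q M :=
    (eq_of_le_of_card_ge (hB.trans hFA) (s.card_pCoreOf_eq q).ge).symm
  exact hF (le_bot_iff.mp (hFA.trans (s.pCoreOf_eq_bot_of_le he.le).le))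

end Setup

end Cfsg.Agent.Lib.ThompsonWielandt
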