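import Cfsg.Agent.Lib.ThompsonWielandt.Action

/-!
Consequences for suborbits of primitive groups: the Wielandt bound.
-/

set_option autoImplicit false
set_option linter.style.haveILetI false

namespace Cfsg.Agent.Lib.ThompsonWielandt

open MulAction Subgroup

variable {G Ω : Type*} [Group G] [Finite G] [MulAction G Ω] [FaithfulSMul G Ω] [Finite Ω]

theorem index_dvd_of_card_dvd {H X : Subgroup G} {N : ℕ} (hX : X ≤ H)
    (h : Nat.card H ∣ Nat.card X * N) : (X.subgroupOf H).index ∣ N := by
  have h1 := card_mul_index (X.subgroupOf H)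
  rw [Nat.card_congr (subgroupOfEquivOfLe hX).toEquiv] at h1
  rw [← h1] at h
  exact Nat.dvd_of_mul_dvd_mul_left Nat.card_pos h

theorem exists_bounded_pSubgroup (hprim : IsPreprimitive G Ω) (a b : Ω) (d : ℕ)
    (hd : Nat.card (orbit (stabilizer G a) b) = d) (h2 : 2 ≤ d) :
    ∃ p : ℕ, p.Prime ∧ ∃ P : Subgroup (stabilizer G a), P.Normal ∧ IsPGroup p P ∧
      (∀ g : P, ((g : stabilizer G a) : G) • b = b) ∧
      P.index ∣ Nat.factorial d * (Nat.factorial (d - 1)) ^ d := by
  haveI := hprim
  have s := setup_of_suborbit hprim a b d hd h2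
  set H := stabilizer G a
  set M := stabilizer G b
  set N := Nat.factorial d * (Nat.factorial (d - 1)) ^ d
  have h1 := card_stabilizer_dvd (G := G) a b d hd
  have h1' := card_stabilizer_dvd' (G := G) a b d hd
  have key : ∀ (p : ℕ) (X : Subgroup G), p.Prime → IsPGroup p X → X ≤ kerK H M →
      H ≤ normalizer (X : Set G) → Nat.card H ∣ Nat.card X * N →
      ∃ p : ℕ, p.Prime ∧ ∃ P : Subgroup (stabilizer G a), P.Normal ∧ IsPGroup p P ∧
        (∀ g : P, ((g : stabilizer G a) : G) • b = b) ∧ P.index ∣ N := by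
    intro p X hp hX hXK hn hdvd
    have hXH : X ≤ H := hXK.trans ((kerK_le H M).trans inf_le_left)
    exact ⟨p, hp, X.subgroupOf H, normal_subgroupOf_of_le_normalizer hn,
      hX.comap_of_injective _ H.subtype_injective,
      fun g => mem_stabilizer_iff.mp ((kerK_le H M (hXK g.2)).2),
      index_dvd_of_card_dvd hXH hdvd⟩
  by_cases hbot : kerP H M = ⊥ ∨ kerP M H = ⊥
  · refine key 2 ⊥ Nat.prime_two IsPGroup.of_bot bot_le ?_ ?_
    · exact (normalizer_eq_top_iff.mpr inferInstance).ge.trans' le_top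
    · rcases hbot with h | h
      · rwa [h] at h1
      · rwa [h] at h1'
  · push Not at hbot
    obtain ⟨r, hr, -, -, hrp⟩ := s.thompson_wielandt hbot.1 hbot.2
    haveI := Fact.mk hr
    refine key r (Cfsg.pCoreOf r (kerK H M)) hr (CharP.pCoreOf_isPGroup _)
      (CharP.pCoreOf_le _) ?_ ?_
    · intro h hh
      have hle : ∀ g ∈ H, ∀ z ∈ Cfsg.pCoreOf r (kerK H M),
          g * z * g⁻¹ ∈ Cfsg.pCoreOf r (kerK H M) := by
        intro g hg z hz
        refine CharP.le_pCoreOf ?_ ((CharP.pCoreOf_isPGroup (kerK H M)).map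
          (MulAut.conj g).toMonoidHom) ?_ ⟨z, hz, rfl⟩
        · rintro _ ⟨w, hw, rfl⟩
          exact conj_mem_of_le_normalizer (le_normalizer_kerK H M) hg (CharP.pCoreOf_le _ hw)
        · refine le_trans ?_ (le_normalizer_map _)
          intro k hk
          refine ⟨g⁻¹ * k * g, CharP.le_normalizer_pCoreOf _ ?_, by simp [mul_assoc]⟩
          simpa using conj_mem_of_le_normalizer (le_normalizer_kerK H M) (inv_mem hg) hk
      rw [mem_normalizer_iff]
      refine fun z => ⟨hle h hh z, fun hz => ?_⟩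
      simpa [mul_assoc] using hle h⁻¹ (inv_mem hh) _ hz
    · rcases hrp with hp | hq
      · exact h1.trans (Nat.mul_dvd_mul_right (card_dvd_of_le (CharP.le_pCoreOf (kerP_le_kerK H M)
          hp (((kerK_le H M).trans inf_le_left).trans (le_normalizer_kerP H M)))) _)
      · exact h1'.trans (Nat.mul_dvd_mul_right (card_dvd_of_le (CharP.le_pCoreOf (kerP_le M H)
          hq (((kerK_le H M).trans inf_le_right).trans (le_normalizer_kerP M H)))) _)

theorem card_stabilizer_dvd_of_not_constrained (hprim : IsPreprimitive G Ω) (a b : Ω) (d : ℕ)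
    (hd : Nat.card (orbit (stabilizer G a) b) = d) (h2 : 2 ≤ d)
    (hnc : ∀ p : ℕ, p.Prime →
      Cfsg.generalizedFittingSubgroup (stabilizer G a) ≠ Cfsg.pCore p (stabilizer G a)) :
    Nat.card (stabilizer G a) ∣ Nat.factorial d * (Nat.factorial (d - 1)) ^ d := by
  haveI := hprim
  have s := setup_of_suborbit hprim a b d hd h2
  have h1 := card_stabilizer_dvd (G := G) a b d hd
  have h1' := card_stabilizer_dvd' (G := G) a b d hd
  by_cases hP : kerP (stabilizer G a) (stabilizer G b) = ⊥
  · rwa [hP, card_bot, one_mul] at h1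
  by_cases hQ : kerP (stabilizer G b) (stabilizer G a) = ⊥
  · rwa [hQ, card_bot, one_mul] at h1'
  obtain ⟨r, hr, -, hF, -⟩ := s.thompson_wielandt hP hQ
  exact absurd hF (hnc r hr)

theorem fitting_two_point_eq_bot (hprim : IsPreprimitive G Ω) (a b : Ω) (d : ℕ)
    (hd : Nat.card (orbit (stabilizer G a) b) = d) (h2 : 2 ≤ d)
    (hF : Cfsg.fittingSubgroup ↥(((stabilizer G b).subgroupOf (stabilizer G a)).map
      (toPermHom (stabilizer G a) (orbit (stabilizer G a) b))) = ⊥) :
    Cfsg.fittingSubgroup ↥(stabilizer G a ⊓ stabilizer G b) = ⊥ ∧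
      Nat.card (stabilizer G a) ∣ Nat.factorial d * (Nat.factorial (d - 1)) ^ d := by
  haveI := hprim
  have s := setup_of_suborbit hprim a b d hd h2
  set H := stabilizer G a
  set M := stabilizer G b
  set f := toPermHom H (orbit H b)
  set I := (M.subgroupOf H).map f
  have hcore : ∀ q : ℕ, q.Prime → Cfsg.pCoreOf q (H ⊓ M) = ⊥ := by
    intro q hq
    haveI := Fact.mk hq
    set F := Cfsg.pCoreOf q (H ⊓ M)
    have hFH : F ≤ H := (CharP.pCoreOf_le _).trans inf_le_left
    have hFI : (F.subgroupOf H).map f ≤ I := map_mono fun x hx =>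
      mem_subgroupOf.mpr (CharP.pCoreOf_le _ (mem_subgroupOf.mp hx)).2
    have hIn : I ≤ normalizer (((F.subgroupOf H).map f : Subgroup _) : Set _) := by
      refine le_trans (map_mono ?_) (le_normalizer_map f)
      intro x hx
      rw [mem_normalizer_iff]
      intro z
      simp only [mem_subgroupOf, Subgroup.coe_mul, InvMemClass.coe_inv]
      exact mem_normalizer_iff.mp (CharP.le_normalizer_pCoreOf (H ⊓ M)
        (mem_inf.mpr ⟨x.2, mem_subgroupOf.mp hx⟩)) (z : G)
    haveI : (((F.subgroupOf H).map f).subgroupOf I).Normal :=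
      normal_subgroupOf_of_le_normalizer hIn
    have hp : IsPGroup q (((F.subgroupOf H).map f).subgroupOf I) :=
      (((CharP.pCoreOf_isPGroup (H ⊓ M)).comap_of_injective _ H.subtype_injective).map f
        ).comap_of_injective _ I.subtype_injective
    have hle := Components.le_fittingSubgroup (N := ((F.subgroupOf H).map f).subgroupOf I)
      inferInstance hp.isNilpotent
    rw [hF, le_bot_iff, subgroupOf_eq_bot, disjoint_iff, inf_eq_left.mpr hFI] at hle
    refine s.pCoreOf_inf_eq_bot ?_
    refine le_trans ?_ (le_kerK (Z := f.ker.map H.subtype) (map_subtype_le _) ?_ ?_)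
    · intro x hx
      refine ⟨⟨x, hFH hx⟩, ?_, rfl⟩
      exact MonoidHom.mem_ker.mpr (mem_bot.mp (hle ▸ mem_map_of_mem f
        (mem_subgroupOf.mpr hx : (⟨x, hFH hx⟩ : H) ∈ F.subgroupOf H)))
    · rintro _ ⟨h, hh, rfl⟩
      have := Equiv.congr_fun (MonoidHom.mem_ker.mp hh) (⟨b, mem_orbit_self b⟩ : orbit H b)
      exact congrArg Subtype.val this
    · refine le_trans ?_ (le_normalizer_map (H := f.ker) H.subtype)
      rw [normalizer_eq_top, ← MonoidHom.range_eq_map, range_subtype]
  refine ⟨?_, ?_⟩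
  · rw [Components.fittingSubgroup_eq_iSup_pCore, iSup_eq_bot]
    rintro ⟨q, hq⟩
    exact (map_eq_bot_iff_of_injective _ (H ⊓ M).subtype_injective).mp
      (hcore q (Nat.prime_of_mem_primeFactors hq))
  · have h1 := card_stabilizer_dvd (G := G) a b d hd
    have h1' := card_stabilizer_dvd' (G := G) a b d hd
    by_cases hP : kerP H M = ⊥
    · rwa [hP, card_bot, one_mul] at h1
    by_cases hQ : kerP M H = ⊥
    · rwa [hQ, card_bot, one_mul] at h1'
    obtain ⟨r, hr, hR, -, -⟩ := s.thompson_wielandt hP hQ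
    haveI := Fact.mk hr
    refine absurd (le_bot_iff.mp (hcore r hr ▸ CharP.le_pCoreOf (inf_le_left.trans (kerP_le_inf H M))
      ((CharP.pCoreOf_isPGroup H).to_le inf_le_right) ?_)) hR
    exact inf_le_left.trans (le_trans (le_inf (le_normalizer_kerP H M)
      (CharP.le_normalizer_pCoreOf H)) inf_normalizer_le_normalizer_inf)

end Cfsg.Agent.Lib.ThompsonWielandt
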